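import Cfsg.Agent.Lib.Eight.Core
import Cfsg.Agent.Lib.PrimeDim.Main

/-!
The groups of symplectic type in degree eight.
-/

set_option autoImplicit false

namespace Cfsg.Agent.Eight

open scoped Matrix MatrixGroups commutatorElement
open Module PrimeDim TwoPrime

variable {n : ℕ} {F : Type*} [Field F] [Fintype F]

local notation "V" => Fin n → F

local notation "Mat" => Matrix (Fin n) (Fin n) F

/-- The alternatives for a minimal normal subgroup which is abelian modulo scalars. -/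
def TwoTypeCases (H R : Subgroup (GL (Fin n) F)) : Prop :=
  (∀ g ∈ H, ∀ x ∈ R, g * x * g⁻¹ ∈ R) ∧ Irr R ∧ ScalarCommutant R ∧ (2 : F) ≠ 0 ∧ (∀ g ∈ R, g ^ 4 = 1) ∧
    ((∃ f : V → V → F, Cfsg.Geo.IsBilinearForm f ∧
        (∀ x ∈ R, ∀ u v, f ((x : Mat) *ᵥ u) ((x : Mat) *ᵥ v) = f u v) ∧ ∃ u v, f u v ≠ 0) ∨
      (∃ F₀ : Subfield F, F₀ ≠ ⊤ ∧ Cfsg.Geo.RealisableOver F₀ (Cfsg.Geo.matrixSet R)) ∨
      (∃ (σ : F ≃+* F) (f : V → V → F), Cfsg.Geo.IsUnitaryForm σ f ∧
        Cfsg.Geo.FixesForm (Cfsg.Geo.matrixSet R) f) ∨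
      ((∃ p : ℕ, p.Prime ∧ Fintype.card F = p ∧ p % 4 = 1) ∧ Cfsg.Geo.IsLinearSymplecticTypeData 2 R ∧
        ∃ x ∈ R, x ∉ Cfsg.Geo.scalars (Fin n) F))

theorem isSquare_or (h2 : (2 : F) ≠ 0) {a b : F} (ha : a ≠ 0) (hb : b ≠ 0) :
    IsSquare a ∨ IsSquare b ∨ IsSquare (a * b) := by
  have hF : ringChar F ≠ 2 := fun e => h2 (by
    haveI := ringChar.charP F
    have := CharP.cast_eq_zero F (ringChar F)
    rw [e] at this
    exact_mod_cast this)
  rw [FiniteField.isSquare_iff hF ha, FiniteField.isSquare_iff hF hb, FiniteField.isSquare_iff hF (mul_ne_zero ha hb)]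
  rcases FiniteField.pow_dichotomy hF ha with e | e
  · exact .inl e
  rcases FiniteField.pow_dichotomy hF hb with e' | e'
  · exact .inr (.inl e')
  · exact .inr (.inr (by rw [mul_pow, e, e']; ring))

/-- Coset representatives of a group abelian modulo scalars are independent. -/
theorem class_indep [NeZero n] {N : Subgroup (GL (Fin n) F)} (hN : Irr N) (hsc : ScalarCommutant N)
    (hD : ∀ x ∈ N, ∀ y ∈ N, x * y * x⁻¹ * y⁻¹ ∈ Cfsg.Geo.scalars (Fin n) F) :
    LinearIndependent F fun c : N ⧸ (Cfsg.Geo.scalars (Fin n) F).subgroupOf N =>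
      (((c.out : N) : GL (Fin n) F) : Mat) := by
  classical
  set Z := (Cfsg.Geo.scalars (Fin n) F).subgroupOf N
  haveI : Finite (N ⧸ Z) := inferInstance
  haveI : Fintype (N ⧸ Z) := Fintype.ofFinite _
  let t : N ⧸ Z → Mat := fun c => ((c.out : N) : GL (Fin n) F)
  have hχ : ∀ (x : N) (c : N ⧸ Z), ∃ a : Fˣ, ((x : GL (Fin n) F) * (c.out : N) * (x : GL (Fin n) F)⁻¹ *
      ((c.out : N) : GL (Fin n) F)⁻¹).val = (a : F) • (1 : Mat) :=
    fun x c => (Cfsg.Geo.mem_scalars_iff _).1 (hD x x.2 (c.out : N) (c.out : N).2)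
  choose χ' hχ' using hχ
  let χ : N → N ⧸ Z → F := fun x c => (χ' x c : F)
  have hχ : ∀ (x : N) (c : N ⧸ Z),
      ((x : GL (Fin n) F) : Mat) * t c * (((x : GL (Fin n) F)⁻¹ : GL (Fin n) F) : Mat) = χ x c • t c := by
    intro x c
    have h := congrArg (· * t c) (hχ' x c)
    simp only [Units.val_mul, t, Units.inv_mul_cancel_right, smul_mul_assoc, one_mul] at h
    exact h
  -- distinct cosets have distinct characters
  have hinj : ∀ c c', (∀ x, χ x c = χ x c') → c = c' := by
    intro c c' h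
    have hcen : ∀ x ∈ N, ((c.out : N) : GL (Fin n) F)⁻¹ * (c'.out : N) * x =
        x * (((c.out : N) : GL (Fin n) F)⁻¹ * (c'.out : N)) := by
      intro x hx
      have hz : x * (c.out : N) * x⁻¹ * ((c.out : N) : GL (Fin n) F)⁻¹ =
          x * (c'.out : N) * x⁻¹ * ((c'.out : N) : GL (Fin n) F)⁻¹ := by
        refine Units.ext ?_
        rw [hχ' ⟨x, hx⟩ c, hχ' ⟨x, hx⟩ c']
        exact congrArg (· • (1 : Mat)) (h ⟨x, hx⟩)
      have hsz := scalar_comm (hD x hx _ (c'.out : N).2)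
      have e1 : x * (c.out : N) * x⁻¹ = (x * (c'.out : N) * x⁻¹ * ((c'.out : N) : GL (Fin n) F)⁻¹) * (c.out : N) := by
        rw [← hz]; group
      have e2 : x * (c'.out : N) * x⁻¹ = (x * (c'.out : N) * x⁻¹ * ((c'.out : N) : GL (Fin n) F)⁻¹) * (c'.out : N) := by
        group
      generalize x * (c'.out : N) * x⁻¹ * ((c'.out : N) : GL (Fin n) F)⁻¹ = z at e1 e2 hsz
      have key : x * (((c.out : N) : GL (Fin n) F)⁻¹ * (c'.out : N)) * x⁻¹ =
          ((c.out : N) : GL (Fin n) F)⁻¹ * (c'.out : N) := by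
        calc _ = (x * (c.out : N) * x⁻¹)⁻¹ * (x * (c'.out : N) * x⁻¹) := by group
          _ = _ := by rw [e1, e2]; group
      conv_lhs => rw [← key]
      group
    have h7 := mem_scalars_of_commutant (Nat.pos_of_ne_zero (NeZero.ne n)) hsc hcen
    rw [← QuotientGroup.out_eq' c, ← QuotientGroup.out_eq' c']
    exact QuotientGroup.eq.2 (Subgroup.mem_subgroupOf.2 h7)
  have hindep : LinearIndependent F t := by
    rw [Fintype.linearIndependent_iff]
    intro g hg
    by_contra hne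
    push Not at hne
    have hex : ∃ k, ∃ g : N ⧸ Z → F, (∑ c, g c • t c = 0 ∧ ∃ c, g c ≠ 0) ∧
        (Finset.univ.filter fun c => g c ≠ 0).card = k := ⟨_, g, ⟨hg, hne⟩, rfl⟩
    obtain ⟨g, ⟨hg, hne⟩, hk⟩ := Nat.find_spec hex
    have hmin : ∀ g' : N ⧸ Z → F, (∑ c, g' c • t c = 0 ∧ ∃ c, g' c ≠ 0) →
        (Finset.univ.filter fun c => g c ≠ 0).card ≤ (Finset.univ.filter fun c => g' c ≠ 0).card :=
      fun g' h => hk ▸ Nat.find_min' hex ⟨g', h, rfl⟩
    obtain ⟨c₁, hc₁⟩ := hne
    have hall : ∀ c, g c ≠ 0 → c = c₁ := by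
      intro c hc
      by_contra hcc
      obtain ⟨x, hx⟩ : ∃ x, χ x c ≠ χ x c₁ := by
        by_contra h
        push Not at h
        exact hcc (hinj c c₁ h)
      have h1 : ∑ e, (g e * (χ x e - χ x c₁)) • t e = 0 := by
        have h2 : ∑ e, (g e * χ x e) • t e = 0 := by
          have := congrArg (fun M => ((x : GL (Fin n) F) : Mat) * M * (((x : GL (Fin n) F)⁻¹ : GL (Fin n) F) : Mat)) hg
          simp only [Finset.mul_sum, Finset.sum_mul, mul_smul_comm, smul_mul_assoc, hχ, smul_smul, mul_zero,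
            zero_mul] at this
          exact this
        have h3 : ∑ e, (g e * χ x c₁) • t e = 0 := by
          simp_rw [mul_comm (g _), ← smul_smul]
          rw [← Finset.smul_sum, hg, smul_zero]
        simp only [mul_sub, sub_smul, Finset.sum_sub_distrib, h2, h3, sub_zero]
      have h4 := hmin _ ⟨h1, c, mul_ne_zero hc (sub_ne_zero.2 hx)⟩
      refine absurd h4 (not_le.2 (Finset.card_lt_card ?_))
      have hsub : (Finset.univ.filter fun e => g e * (χ x e - χ x c₁) ≠ 0) ⊆ Finset.univ.filter fun e => g e ≠ 0 :=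
        fun e he => by
          simp only [Finset.mem_filter, Finset.mem_univ, true_and] at he ⊢
          exact left_ne_zero_of_mul he
      exact (Finset.ssubset_iff_of_subset hsub).2 ⟨c₁, by simp [hc₁], by simp⟩
    have h5 : g c₁ • t c₁ = 0 := by
      have h := Finset.sum_eq_single (s := Finset.univ) (f := fun e => g e • t e) c₁
        (fun e _ he => by
          show g e • t e = 0
          rw [show g e = 0 from not_not.1 (fun h => he (hall e h)), zero_smul]) (by simp)
      exact h.symm.trans hg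
    exact (((c₁.out : N) : GL (Fin n) F)).ne_zero ((smul_eq_zero.1 h5).resolve_left hc₁)
  exact hindep

/-- A basis in which the group is monomial. -/
theorem exists_monomial [NeZero n] (hn8 : n = 8) (h2 : (2 : F) ≠ 0) {i : F} (hi : i * i = -1)
    {R : Subgroup (GL (Fin n) F)} (hRirr : Irr R) (hRsc : ScalarCommutant R)
    (hRD : ∀ x ∈ R, ∀ y ∈ R, x * y * x⁻¹ * y⁻¹ ∈ Cfsg.Geo.scalars (Fin n) F)
    (hR2 : ∀ g ∈ R, g ^ 2 ∈ Cfsg.Geo.scalars (Fin n) F) (hR4 : ∀ g ∈ R, g ^ 4 = 1)
    (hroot : ∀ s ∈ Cfsg.Geo.scalars (Fin n) F, ∀ c : F, (s : Mat) = c • 1 → s ^ 4 = 1 →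
      c = 1 ∨ c = -1 ∨ c = i ∨ c = -i)
    (hcard : Nat.card (R ⧸ (Cfsg.Geo.scalars (Fin n) F).subgroupOf R) = n ^ 2) :
    ∃ β : Basis (Fin n) F V, ∀ g ∈ R, ∃ (π : Equiv.Perm (Fin n)) (a : Fin n → F),
      (∀ l, (g : Mat) *ᵥ β l = a l • β (π l)) ∧ ∀ l, a l = 1 ∨ a l = -1 ∨ a l = i ∨ a l = -i := by
  classical
  set Z : Subgroup R := (Cfsg.Geo.scalars (Fin n) F).subgroupOf R with hZ
  -- a maximal abelian subgroup
  let Good : Subgroup R → Prop := fun A => Z ≤ A ∧ ∀ x ∈ A, ∀ y ∈ A, x * y = y * x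
  have hG0 : Good Z := ⟨le_rfl, fun x hx y _ => Subtype.ext (scalar_comm (Subgroup.mem_subgroupOf.1 hx) _)⟩
  obtain ⟨A, ⟨hZA, hAc⟩, hAmax⟩ : ∃ A, Good A ∧ ∀ B, Good B → A ≤ B → B ≤ A := by
    haveI : Finite (Subgroup R) := inferInstance
    obtain ⟨A, hA⟩ := Set.Finite.exists_maximal (s := {A | Good A}) (Set.toFinite _) ⟨Z, hG0⟩
    exact ⟨A, hA.prop, fun B hB hle => hA.2 hB hle⟩
  have hcen : ∀ g : R, (∀ a ∈ A, g * a = a * g) → g ∈ A := by
    intro g hg
    refine hAmax (Subgroup.closure (insert g (A : Set R))) ⟨hZA.trans fun x hx => Subgroup.subset_closure (.inr hx), ?_⟩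
      (fun x hx => Subgroup.subset_closure (.inr hx)) (Subgroup.subset_closure (.inl rfl))
    intro x hx y hy
    have h1 : ∀ x ∈ insert g (A : Set R), ∀ y ∈ insert g (A : Set R), x * y = y * x := by
      intro x hx y hy
      rcases hx with e1 | hx <;> rcases hy with e2 | hy
      · rw [e1, e2]
      · rw [e1]; exact hg y hy
      · rw [e2]; exact (hg x hx).symm
      · exact hAc x hx y hy
    induction hx using Subgroup.closure_induction with
    | mem x hx =>
      induction hy using Subgroup.closure_induction with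
      | mem y hy => exact h1 x hx y hy
      | one => simp
      | mul a c _ _ ha hc => exact (Commute.mul_right ha hc).eq
      | inv a _ ha => exact (Commute.inv_right ha).eq
    | one => simp
    | mul a c _ _ ha hc => exact (Commute.mul_left ha hc).eq
    | inv a _ ha => exact (Commute.inv_left ha).eq
  -- a common eigenvector
  haveI : Fintype A := Fintype.ofFinite A
  have heig : ∀ s : Finset A, ∃ v : V, v ≠ 0 ∧ ∀ a ∈ s, ∃ c : F,
      (((a : R) : GL (Fin n) F) : Mat) *ᵥ v = c • v := by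
    intro s
    induction s using Finset.induction with
    | empty => exact ⟨Pi.single 0 1, fun e => by simpa using congrFun e 0, by simp⟩
    | insert a s _ ih =>
      obtain ⟨v, hv, hs⟩ := ih
      set M : Mat := (((a : R) : GL (Fin n) F) : Mat) with hM
      obtain ⟨r, hr⟩ : ∃ r : F, M * M = (r * r) • (1 : Mat) := by
        obtain ⟨c, hc⟩ := (Cfsg.Geo.mem_scalars_iff _).1 (hR2 _ (a : R).2)
        have h4 : (((a : R) : GL (Fin n) F) ^ 2) ^ 2 = 1 := by rw [← pow_mul]; exact hR4 _ (a : R).2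
        have h := congrArg (fun g : GL (Fin n) F => (g : Mat) 0 0) h4
        rw [Units.val_pow_eq_pow_val, hc, _root_.smul_pow, one_pow] at h
        simp only [Matrix.smul_apply, Matrix.one_apply_eq, Units.val_one, smul_eq_mul, mul_one] at h
        rw [pow_two, Units.val_mul] at hc
        rcases sq_eq_one_iff.1 h with e | e
        · exact ⟨1, by rw [hM, hc, e, mul_one]⟩
        · exact ⟨i, by rw [hM, hc, e, hi]⟩
      by_cases hw : M *ᵥ v + r • v = 0
      · refine ⟨v, hv, fun b hb => ?_⟩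
        rcases Finset.mem_insert.1 hb with rfl | hb
        · exact ⟨-r, by rw [neg_smul]; exact eq_neg_of_add_eq_zero_left hw⟩
        · exact hs b hb
      · refine ⟨M *ᵥ v + r • v, hw, fun b hb => ?_⟩
        rcases Finset.mem_insert.1 hb with rfl | hb
        · refine ⟨r, ?_⟩
          rw [Matrix.mulVec_add, Matrix.mulVec_smul, ← hM, Matrix.mulVec_mulVec, hr, Matrix.smul_mulVec,
            Matrix.one_mulVec, smul_add, smul_smul, add_comm]
        · obtain ⟨c, hc⟩ := hs b hb
          refine ⟨c, ?_⟩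
          have hcomm : (((b : R) : GL (Fin n) F) : Mat) * M = M * (((b : R) : GL (Fin n) F) : Mat) := by
            simpa [hM] using congrArg (fun z : R => ((z : GL (Fin n) F) : Mat)) (hAc _ b.2 _ a.2)
          rw [Matrix.mulVec_add, Matrix.mulVec_smul, Matrix.mulVec_mulVec, hcomm, ← Matrix.mulVec_mulVec, hc,
            Matrix.mulVec_smul, smul_add, smul_comm]
  obtain ⟨v, hv0, hv⟩ := heig Finset.univ
  -- translates span
  haveI : Fintype (R ⧸ A) := Fintype.ofFinite _
  let w : R ⧸ A → V := fun c => (((c.out : R) : GL (Fin n) F) : Mat) *ᵥ v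
  have hstep : ∀ (g : R) (c : R ⧸ A), ∃ a : F, (((g : GL (Fin n) F)) : Mat) *ᵥ w c = a • w (g • c) ∧
      (a = 1 ∨ a = -1 ∨ a = i ∨ a = -i) := by
    intro g c
    obtain ⟨z, hz⟩ := QuotientGroup.mk_out_eq_mul A (g * c.out)
    have hc : g • c = (QuotientGroup.mk (g * c.out) : R ⧸ A) := by
      conv_lhs => rw [← QuotientGroup.out_eq' c]
      rfl
    obtain ⟨μ, hμ⟩ := hv z⁻¹ (Finset.mem_univ _)
    have key : (g * c.out : R) = (QuotientGroup.mk (g * c.out) : R ⧸ A).out * ((z⁻¹ : A) : R) := by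
      rw [hz]; simp
    refine ⟨μ, ?_, ?_⟩
    · rw [hc]
      simp only [w]
      rw [Matrix.mulVec_mulVec, ← Units.val_mul, ← Subgroup.coe_mul, ← Matrix.mulVec_smul]
      conv_lhs => rw [key]
      rw [Subgroup.coe_mul, Units.val_mul, ← Matrix.mulVec_mulVec, hμ]
    · have h4 : μ ^ 4 = 1 := by
        have hpow : ∀ k : ℕ, (((((z⁻¹ : A) : R) : GL (Fin n) F) : Mat) ^ k) *ᵥ v = μ ^ k • v := by
          intro k
          induction k with
          | zero => simp
          | succ k ih => rw [pow_succ, ← Matrix.mulVec_mulVec, hμ, Matrix.mulVec_smul, ih, smul_smul, pow_succ']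
        have h := hpow 4
        rw [← Units.val_pow_eq_pow_val, hR4 _ (((z⁻¹ : A) : R)).2, Units.val_one, Matrix.one_mulVec] at h
        exact smul_left_injective F hv0 (by simpa using h.symm)
      have h' : (μ - 1) * (μ + 1) * (μ - i) * (μ + i) = 0 := by linear_combination h4 - (μ ^ 2 - 1) * hi
      simp only [mul_eq_zero, sub_eq_zero, add_eq_zero_iff_eq_neg] at h'
      tauto
  have hspan : Submodule.span F (Set.range w) = ⊤ := by
    refine (hRirr _ fun g hg u hu => ?_).resolve_left fun e => hv0 ?_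
    · induction hu using Submodule.span_induction with
      | mem u hu =>
        obtain ⟨c, rfl⟩ := hu
        obtain ⟨a, ha, -⟩ := hstep ⟨g, hg⟩ c
        rw [ha]
        exact Submodule.smul_mem _ _ (Submodule.subset_span ⟨_, rfl⟩)
      | zero => simp
      | add x y _ _ hx hy => rw [Matrix.mulVec_add]; exact Submodule.add_mem _ hx hy
      | smul a x _ hx => rw [Matrix.mulVec_smul]; exact Submodule.smul_mem _ _ hx
    · have h1 : w ((1 : R) : R ⧸ A) ∈ Submodule.span F (Set.range w) := Submodule.subset_span ⟨_, rfl⟩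
      rw [e, Submodule.mem_bot] at h1
      have h2 := congrArg ((((((1 : R) : R ⧸ A).out : R) : GL (Fin n) F)⁻¹ : GL (Fin n) F).val *ᵥ ·) h1
      simpa [w, TransvMax.inv_mulVec_mulVec] using h2
  -- at most eight cosets, by characters
  have hge : n ≤ A.index := by
    have h := finrank_range_le_card (R := F) w
    rw [Set.finrank, hspan, finrank_top, finrank_fintype_fun_eq_card, Fintype.card_fin] at h
    rwa [Subgroup.index_eq_card, Nat.card_eq_fintype_card]
  let ZA : Subgroup A := Z.subgroupOf A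
  haveI hZn : ZA.Normal := ⟨fun a ha g => by
    rw [show g * a * g⁻¹ = a by
      rw [show g * a = a * g from Subtype.ext (hAc _ g.2 _ a.2), mul_inv_cancel_right]]
    exact ha⟩
  have hχ : ∀ (g : R) (a : A), ∃ c : F, ((g : GL (Fin n) F) * (a : R) * (g : GL (Fin n) F)⁻¹ *
      ((a : R) : GL (Fin n) F)⁻¹).val = c • 1 := fun g a => by
    obtain ⟨c, hc⟩ := (Cfsg.Geo.mem_scalars_iff _).1 (hRD g g.2 (a : R) (a : R).2)
    exact ⟨c, hc⟩
  choose χ hχ using hχ
  have hone : ∀ {a c : F}, a • (1 : Mat) = c • (1 : Mat) → a = c := fun {a c} h => by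
    simpa using congrFun (congrFun h 0) 0
  have hmul : ∀ g (a a' : A), χ g (a * a') = χ g a * χ g a' := by
    intro g a a'
    have e1 : (g : GL (Fin n) F) * ((a * a' : A) : R) * (g : GL (Fin n) F)⁻¹ * (((a * a' : A) : R) : GL (Fin n) F)⁻¹ =
        ((g : GL (Fin n) F) * (a : R) * (g : GL (Fin n) F)⁻¹ * ((a : R) : GL (Fin n) F)⁻¹) *
        ((g : GL (Fin n) F) * (a' : R) * (g : GL (Fin n) F)⁻¹ * ((a' : R) : GL (Fin n) F)⁻¹) := by
      have hs := scalar_comm (hRD g g.2 (a' : R) (a' : R).2)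
      simp only [Subgroup.coe_mul]
      generalize hzz : (g : GL (Fin n) F) * (a' : R) * (g : GL (Fin n) F)⁻¹ * ((a' : R) : GL (Fin n) F)⁻¹ = zz at hs
      rw [mul_assoc _ _ zz, ← hs, ← hzz]
      group
    exact hone ((hχ g (a * a')).symm.trans ((congrArg Units.val e1).trans (by
      rw [Units.val_mul, hχ, hχ, smul_mul_smul_comm, one_mul])))
  have hone' : ∀ g (a : A), a ∈ ZA → χ g a = 1 := by
    intro g a ha
    refine hone ((hχ g a).symm.trans ?_)
    rw [show (g : GL (Fin n) F) * (a : R) * (g : GL (Fin n) F)⁻¹ * ((a : R) : GL (Fin n) F)⁻¹ = 1 by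
      rw [← scalar_comm (Subgroup.mem_subgroupOf.1 (Subgroup.mem_subgroupOf.1 ha)) (g : GL (Fin n) F)]; group,
      one_smul, Units.val_one]
  let ψ : R ⧸ A → (A ⧸ ZA →* F) := fun c => QuotientGroup.lift ZA
    { toFun := χ c.out, map_one' := hone' _ _ ZA.one_mem, map_mul' := hmul _ }
    (fun a ha => hone' _ a ha)
  have hψ : Function.Injective ψ := by
    intro c c' h
    rw [← QuotientGroup.out_eq' c, ← QuotientGroup.out_eq' c']
    refine QuotientGroup.eq.2 (hcen _ fun a ha => Subtype.ext ?_)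
    have h1 : χ c.out ⟨a, ha⟩ = χ c'.out ⟨a, ha⟩ := DFunLike.congr_fun h (QuotientGroup.mk ⟨a, ha⟩ : A ⧸ ZA)
    have hz : ((c.out : R) : GL (Fin n) F) * a * ((c.out : R) : GL (Fin n) F)⁻¹ * (a : GL (Fin n) F)⁻¹ =
        ((c'.out : R) : GL (Fin n) F) * a * ((c'.out : R) : GL (Fin n) F)⁻¹ * (a : GL (Fin n) F)⁻¹ :=
      Units.ext ((hχ c.out ⟨a, ha⟩).trans ((congrArg (· • (1 : Mat)) h1).trans (hχ c'.out ⟨a, ha⟩).symm))
    rw [mul_left_inj] at hz
    simp only [Subgroup.coe_mul, InvMemClass.coe_inv]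
    generalize ((c.out : R) : GL (Fin n) F) = g at hz
    generalize ((c'.out : R) : GL (Fin n) F) = g' at hz
    calc g⁻¹ * g' * a = g⁻¹ * (g' * a * g'⁻¹) * g' := by group
      _ = a * (g⁻¹ * g') := by rw [← hz]; group
  haveI : Fintype (A ⧸ ZA) := Fintype.ofFinite _
  have hle : A.index ≤ ZA.index := by
    have h := ((linearIndependent_monoidHom (A ⧸ ZA) F).comp ψ hψ).fintype_card_le_finrank
    rw [finrank_fintype_fun_eq_card] at h
    rwa [Subgroup.index_eq_card, Subgroup.index_eq_card, Nat.card_eq_fintype_card, Nat.card_eq_fintype_card]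
  have hprod : ZA.index * A.index = n ^ 2 := by
    rw [← hcard, ← Subgroup.index_eq_card]
    exact Subgroup.relIndex_mul_index hZA
  have hidx : Fintype.card (R ⧸ A) = n := by
    rw [← Nat.card_eq_fintype_card, ← Subgroup.index_eq_card]
    subst hn8
    nlinarith
  let β0 : Basis (R ⧸ A) F V := basisOfTopLeSpanOfCardEqFinrank w hspan.ge (by rw [finrank_fintype_fun_eq_card, Fintype.card_fin, hidx])
  let em : R ⧸ A ≃ Fin n := Fintype.equivFinOfCardEq hidx
  refine ⟨β0.reindex em, fun g hg => ?_⟩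
  have hb : ∀ c, β0 c = w c := fun c => by simp [β0]
  choose a ha using hstep ⟨g, hg⟩
  refine ⟨(em.symm.trans (MulAction.toPerm (⟨g, hg⟩ : R))).trans em, fun l => a (em.symm l), fun l => ?_,
    fun l => (ha _).2⟩
  simp only [Basis.reindex_apply, Equiv.trans_apply, Equiv.symm_apply_apply, MulAction.toPerm_apply, hb]
  exact (ha _).1

set_option maxHeartbeats 1000000 in
theorem two_type [NeZero n] (hn8 : n = 8) {H N : Subgroup (GL (Fin n) F)}
    (hNn : ∀ g ∈ H, ∀ x ∈ N, g * x * g⁻¹ ∈ N) (hNs : ¬ N ≤ Cfsg.Geo.scalars (Fin n) F)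
    (hmin : ∀ R : Subgroup (GL (Fin n) F), R ≤ N → (∀ g ∈ H, ∀ x ∈ R, g * x * g⁻¹ ∈ R) →
      ¬ R ≤ Cfsg.Geo.scalars (Fin n) F → R = N)
    (hirr : Irr N) (hsc : ScalarCommutant N)
    (hD : ∀ x ∈ N, ∀ y ∈ N, x * y * x⁻¹ * y⁻¹ ∈ Cfsg.Geo.scalars (Fin n) F)
    (hsq : ∀ x ∈ N, x ^ 2 ∈ Cfsg.Geo.scalars (Fin n) F) : ∃ R, TwoTypeCases H R := by
  classical
  have hnpos : 0 < n := by omega
  let S := Cfsg.Geo.scalars (Fin n) F
  have hS : S.Normal := Cfsg.Geo.scalars_normal
  -- commutators are signs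
  have hsign : ∀ x ∈ N, ∀ y ∈ N, x * y = y * x ∨ ((x * y * x⁻¹ * y⁻¹ : GL (Fin n) F) : Mat) = -1 := by
    intro x hx y hy
    obtain ⟨a, ha⟩ := (Cfsg.Geo.mem_scalars_iff _).1 (hD x hx y hy)
    have h1 : x * y ^ 2 * x⁻¹ = y ^ 2 := by rw [← scalar_comm (hsq y hy), mul_inv_cancel_right]
    have h3 : (x * y * x⁻¹ * y⁻¹) ^ 2 = 1 := by
      have hz := scalar_comm (hD x hx y hy)
      calc (x * y * x⁻¹ * y⁻¹) ^ 2 = (x * y * x⁻¹ * y⁻¹) * (x * y * x⁻¹ * y⁻¹) := pow_two _
        _ = (x * y * x⁻¹) * ((x * y * x⁻¹ * y⁻¹) * y⁻¹) := by rw [hz y⁻¹]; group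
        _ = (x * y ^ 2 * x⁻¹) * (y ^ 2)⁻¹ := by rw [pow_two]; group
        _ = 1 := by rw [h1, mul_inv_cancel]
    have h4 := congrArg (fun g : GL (Fin n) F => (g : Mat) 0 0) h3
    rw [Units.val_pow_eq_pow_val, ha, _root_.smul_pow, one_pow] at h4
    simp only [Matrix.smul_apply, Matrix.one_apply_eq, Units.val_one, smul_eq_mul, mul_one] at h4
    rcases sq_eq_one_iff.1 h4 with e | e
    · left
      have h5 : x * y * x⁻¹ * y⁻¹ = 1 := Units.ext (by rw [ha, e, one_smul, Units.val_one])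
      exact mul_inv_eq_iff_eq_mul.1 (mul_inv_eq_one.1 h5)
    · right
      rw [ha, e, neg_one_smul]
  obtain ⟨x₀, hx₀, y₀, hy₀, hxy₀⟩ : ∃ x ∈ N, ∃ y ∈ N, x * y ≠ y * x := by
    by_contra hc
    push Not at hc
    exact hNs fun x hx => mem_scalars_of_commutant hnpos hsc fun y hy => hc x hx y hy
  have h2 : (2 : F) ≠ 0 := by
    intro e
    refine hxy₀ ((hsign x₀ hx₀ y₀ hy₀).resolve_right fun h => ?_)
    have h5 : x₀ * y₀ * x₀⁻¹ * y₀⁻¹ = 1 := Units.ext (by
      rw [h, Units.val_one]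
      refine neg_eq_of_add_eq_zero_right ?_
      rw [← two_smul F (1 : Mat), e, zero_smul])
    exact hxy₀ (mul_inv_eq_iff_eq_mul.1 (mul_inv_eq_one.1 h5))
  have hmulsq : ∀ x ∈ N, ∀ y ∈ N, ∀ a c : F, ((x ^ 2 : GL (Fin n) F) : Mat) = a • 1 →
      ((y ^ 2 : GL (Fin n) F) : Mat) = c • 1 → (((x * y) ^ 2 : GL (Fin n) F) : Mat) = (a * c) • 1 ∨
        (((x * y) ^ 2 : GL (Fin n) F) : Mat) = (-(a * c)) • 1 := by
    intro x hx y hy a c ha hc
    have hz : (x * y) ^ 2 = x * x * ((x⁻¹ * y * x * y⁻¹) * (y * y)) := by rw [pow_two]; group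
    rcases hsign x⁻¹ (N.inv_mem hx) y hy with h | h
    · left
      rw [hz, show x⁻¹ * y * x * y⁻¹ = 1 by rw [h]; group, one_mul, ← pow_two, ← pow_two, Units.val_mul, ha, hc,
        smul_mul_smul_comm, one_mul]
    · right
      have e : ((x⁻¹ * y * x * y⁻¹ : GL (Fin n) F) : Mat) = -1 := by simpa using h
      rw [hz, ← pow_two x, ← pow_two y, Units.val_mul, Units.val_mul, e, ha, hc, neg_one_mul, mul_neg, smul_mul_smul_comm, one_mul, neg_smul]
  -- squares are squares up to sign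
  let N0 : Subgroup (GL (Fin n) F) :=
    { carrier := {x | x ∈ N ∧ ∃ a : F, ((x ^ 2 : GL (Fin n) F) : Mat) = (a * a) • 1 ∨
        ((x ^ 2 : GL (Fin n) F) : Mat) = (-(a * a)) • 1}
      one_mem' := ⟨N.one_mem, 1, .inl (by simp)⟩
      mul_mem' := fun {x y} hx hy => by
        obtain ⟨hxN, a, ha⟩ := hx
        obtain ⟨hyN, c, hc⟩ := hy
        refine ⟨N.mul_mem hxN hyN, a * c, ?_⟩
        rcases ha with ha | ha <;> rcases hc with hc | hc <;> rcases hmulsq x hxN y hyN _ _ ha hc with h | h <;>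
          first | exact .inl (h.trans (congrArg (· • (1 : Mat)) (by ring1)))
                | exact .inr (h.trans (congrArg (· • (1 : Mat)) (by ring1)))
      inv_mem' := fun {x} hx => by
        obtain ⟨hxN, a, ha⟩ := hx
        have ha0 : a ≠ 0 := fun e => by
          subst e
          rcases ha with ha | ha <;> exact (x ^ 2).ne_zero (by simpa using ha)
        refine ⟨N.inv_mem hxN, a⁻¹, ?_⟩
        rw [inv_pow]
        rcases ha with ha | ha
        · refine .inl (Units.inv_eq_of_mul_eq_one_right ?_)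
          rw [ha, smul_mul_smul_comm, one_mul, show a * a * (a⁻¹ * a⁻¹) = 1 by field_simp, one_smul]
        · refine .inr (Units.inv_eq_of_mul_eq_one_right ?_)
          rw [ha, smul_mul_smul_comm, one_mul, show -(a * a) * -(a⁻¹ * a⁻¹) = 1 by field_simp, one_smul] }
  have hN0 : N0 = N := by
    refine hmin N0 (fun x hx => hx.1) (fun g hg x hx => ?_) fun hle => ?_
    · obtain ⟨hxN, a, ha⟩ := hx
      refine ⟨hNn g hg x hxN, a, ?_⟩
      rwa [conj_pow, ← scalar_comm (hsq x hxN), mul_inv_cancel_right]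
    · have hns : ∀ x ∈ N, ∀ y ∈ N, x * y ≠ y * x → x ∉ S := fun x _ y _ h hx => h (scalar_comm hx y)
      obtain ⟨a, ha⟩ := (Cfsg.Geo.mem_scalars_iff _).1 (hsq x₀ hx₀)
      obtain ⟨c, hc⟩ := (Cfsg.Geo.mem_scalars_iff _).1 (hsq y₀ hy₀)
      have hxy : x₀ * y₀ ∉ S := hns _ (N.mul_mem hx₀ hy₀) y₀ hy₀ fun e => hxy₀ (by
        rw [← mul_assoc] at e
        exact mul_right_cancel e)
      have hyS := hns y₀ hy₀ x₀ hx₀ (Ne.symm hxy₀)
      have hxS := hns x₀ hx₀ y₀ hy₀ hxy₀
      rcases isSquare_or h2 a.ne_zero c.ne_zero with ⟨t, ht⟩ | ⟨t, ht⟩ | ⟨t, ht⟩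
      · exact hxS (hle ⟨hx₀, t, .inl (ha.trans (by rw [ht]))⟩)
      · exact hyS (hle ⟨hy₀, t, .inl (hc.trans (by rw [ht]))⟩)
      · refine hxy (hle ⟨N.mul_mem hx₀ hy₀, t, ?_⟩)
        rw [← ht]
        exact hmulsq x₀ hx₀ y₀ hy₀ _ _ ha hc
  -- elements of order dividing four
  let R : Subgroup (GL (Fin n) F) :=
    { carrier := {g | g ^ 4 = 1 ∧ ∃ x ∈ N, ∃ s ∈ S, g = x * s}
      one_mem' := ⟨one_pow 4, 1, N.one_mem, 1, S.one_mem, (one_mul 1).symm⟩
      mul_mem' := fun {g g'} hg hg' => by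
        obtain ⟨hg4, x, hx, s, hs, rfl⟩ := hg
        obtain ⟨hg4', y, hy, t, ht, rfl⟩ := hg'
        refine ⟨?_, x * y, N.mul_mem hx hy, s * t, S.mul_mem hs ht, by
          rw [mul_assoc, ← mul_assoc s y, scalar_comm hs y]; group⟩
        obtain ⟨a, ha⟩ := (Cfsg.Geo.mem_scalars_iff _).1 (hsq x hx)
        obtain ⟨c, hc⟩ := (Cfsg.Geo.mem_scalars_iff _).1 (hsq y hy)
        obtain ⟨u, hu⟩ := (Cfsg.Geo.mem_scalars_iff _).1 hs
        obtain ⟨w, hw⟩ := (Cfsg.Geo.mem_scalars_iff _).1 ht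
        have e1 : ∀ (z r : GL (Fin n) F), r ∈ S → ∀ k : ℕ, (z * r) ^ k = z ^ k * r ^ k := fun z r hr k =>
          (show Commute z r from (scalar_comm hr z).symm).mul_pow k
        have hv : ∀ (z r : GL (Fin n) F) (α γ : F), r ∈ S → ((z ^ 2 : GL (Fin n) F) : Mat) = α • 1 →
            (r : Mat) = γ • 1 → (((z * r) ^ 4 : GL (Fin n) F) : Mat) = (α ^ 2 * γ ^ 4) • 1 := by
          intro z r α γ hr hz hr'
          rw [e1 z r hr, Units.val_mul, show 4 = 2 * 2 from rfl, pow_mul z, Units.val_pow_eq_pow_val (z ^ 2), hz,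
            Units.val_pow_eq_pow_val r, hr', _root_.smul_pow, _root_.smul_pow, one_pow, one_pow, smul_mul_smul_comm, one_mul]
        have hone : ∀ {γ : F}, γ • (1 : Mat) = 1 → γ = 1 := fun {γ} h => by
          simpa using congrFun (congrFun h 0) 0
        have f1 := hone ((hv x s _ _ hs ha hu).symm.trans (congrArg Units.val hg4))
        have f2 := hone ((hv y t _ _ ht hc hw).symm.trans (congrArg Units.val hg4'))
        refine Units.ext ?_
        rw [show x * s * (y * t) = (x * y) * (s * t) by rw [mul_assoc, ← mul_assoc s y, scalar_comm hs y]; group]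
        rcases hmulsq x hx y hy _ _ ha hc with h | h <;>
          rw [hv (x * y) (s * t) _ ((u : F) * w) (S.mul_mem hs ht) h
            (by rw [Units.val_mul, hu, hw, smul_mul_smul_comm, one_mul]), Units.val_one] <;>
          convert one_smul F (1 : Mat) using 2 <;> linear_combination (↑c ^ 2 * ↑w ^ 4) * f1 + f2
      inv_mem' := fun {g} hg => by
        obtain ⟨hg4, x, hx, s, hs, rfl⟩ := hg
        exact ⟨by rw [inv_pow, hg4, inv_one], x⁻¹, N.inv_mem hx, s⁻¹, S.inv_mem hs, by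
          rw [mul_inv_rev, scalar_comm (S.inv_mem hs)]⟩ }
  have hlift : ∀ x ∈ N, ∃ s ∈ S, x * s ∈ R := by
    intro x hx
    obtain ⟨-, a, ha⟩ : x ∈ N0 := hN0.symm ▸ hx
    have ha0 : a ≠ 0 := fun e => by
      subst e
      rcases ha with ha | ha <;> exact (x ^ 2).ne_zero (by simpa using ha)
    let s : GL (Fin n) F := ⟨a⁻¹ • 1, a • 1, by rw [smul_mul_smul_comm, one_mul, inv_mul_cancel₀ ha0, one_smul],
      by rw [smul_mul_smul_comm, one_mul, mul_inv_cancel₀ ha0, one_smul]⟩
    have hs : s ∈ S := (Cfsg.Geo.mem_scalars_iff s).2 ⟨Units.mk0 a⁻¹ (inv_ne_zero ha0), rfl⟩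
    refine ⟨s, hs, ?_, x, hx, s, hs, rfl⟩
    refine Units.ext ?_
    rw [(show Commute x s from (scalar_comm hs x).symm).mul_pow, Units.val_mul, show 4 = 2 * 2 from rfl, pow_mul x,
      Units.val_pow_eq_pow_val (x ^ 2), Units.val_pow_eq_pow_val s, show (s : Mat) = a⁻¹ • 1 from rfl]
    rcases ha with ha | ha <;>
      rw [ha, _root_.smul_pow, _root_.smul_pow, one_pow, one_pow, smul_mul_smul_comm, one_mul, Units.val_one] <;>
      convert one_smul F (1 : Mat) using 2 <;>
        linear_combination ((a * a⁻¹) ^ 3 + (a * a⁻¹) ^ 2 + a * a⁻¹ + 1) * mul_inv_cancel₀ ha0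
  have hRn : ∀ g ∈ H, ∀ x ∈ R, g * x * g⁻¹ ∈ R := by
    rintro g hg _ ⟨h4, x, hx, s, hs, rfl⟩
    exact ⟨by rw [conj_pow, h4, mul_one, mul_inv_cancel], g * x * g⁻¹, hNn g hg x hx, s, hs, by
      rw [mul_assoc (g * x) g⁻¹, ← scalar_comm hs g⁻¹]; group⟩
  have hsR : ∀ {M : Mat}, (∀ g ∈ R, M * (g : Mat) = (g : Mat) * M) → ∀ x ∈ N, M * (x : Mat) = (x : Mat) * M := by
    intro M hM x hx
    obtain ⟨s, hs, hxs⟩ := hlift x hx
    obtain ⟨c, hc⟩ := (Cfsg.Geo.mem_scalars_iff _).1 hs
    have h := hM _ hxs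
    rw [Units.val_mul, hc, mul_smul_comm, mul_one, mul_smul_comm, smul_mul_assoc] at h
    exact smul_right_injective Mat c.ne_zero h
  have hRirr : Irr R := fun W hW => hirr W fun x hx w hw => by
    obtain ⟨s, hs, hxs⟩ := hlift x hx
    obtain ⟨c, hc⟩ := (Cfsg.Geo.mem_scalars_iff _).1 hs
    have h := hW _ hxs w hw
    rw [Units.val_mul, hc, mul_smul_comm, mul_one, Matrix.smul_mulVec] at h
    exact (Submodule.smul_mem_iff W c.ne_zero).1 h
  have hRsc : ScalarCommutant R := fun M hM => hsc M (hsR hM)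
  have hRD : ∀ x ∈ R, ∀ y ∈ R, x * y * x⁻¹ * y⁻¹ ∈ S := by
    rintro _ ⟨-, x, hx, s, hs, rfl⟩ _ ⟨-, y, hy, t, ht, rfl⟩
    rw [show x * s * (y * t) * (x * s)⁻¹ * (y * t)⁻¹ = x * y * x⁻¹ * y⁻¹ by
      rw [← scalar_comm hs x, ← scalar_comm ht y]
      have e1 : ∀ z, s * z = z * s := scalar_comm hs
      have e2 : ∀ z, t * z = z * t := scalar_comm ht
      calc s * x * (t * y) * (s * x)⁻¹ * (t * y)⁻¹ = s * (x * t * y * x⁻¹) * s⁻¹ * (y⁻¹ * t⁻¹) := by group
        _ = (x * t * y * x⁻¹) * (y⁻¹ * t⁻¹) := by rw [e1]; group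
        _ = t * (x * y * x⁻¹ * y⁻¹) * t⁻¹ := by rw [← e2 x]; group
        _ = _ := by rw [e2]; group]
    exact hD x hx y hy
  have hR2 : ∀ g ∈ R, g ^ 2 ∈ S := by
    rintro _ ⟨-, x, hx, s, hs, rfl⟩
    rw [(show Commute x s from (scalar_comm hs x).symm).mul_pow]
    exact S.mul_mem (hsq x hx) (pow_mem hs 2)
  have hR4 : ∀ g ∈ R, g ^ 4 = 1 := fun g hg => hg.1
  refine ⟨R, hRn, hRirr, hRsc, h2, hR4, ?_⟩
  have hcard := classTwo_card hRirr hRsc hRD
  set Z : Subgroup R := S.subgroupOf R with hZ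
  by_cases hi : ∃ i : F, i * i = -1
  swap
  · -- no fourth root of unity: an invariant form
    left
    haveI : Fintype (R ⧸ Z) := Fintype.ofFinite _
    have hsgn : ∀ s ∈ S, s ∈ R → (s : Mat) = 1 ∨ (s : Mat) = -1 := by
      intro s hs hsR
      obtain ⟨c, hc⟩ := (Cfsg.Geo.mem_scalars_iff _).1 hs
      have h := congrArg (fun g : GL (Fin n) F => (g : Mat) 0 0) (hR4 s hsR)
      rw [Units.val_pow_eq_pow_val, hc, _root_.smul_pow, one_pow] at h
      simp only [Matrix.smul_apply, Matrix.one_apply_eq, Units.val_one, smul_eq_mul, mul_one] at h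
      have h' : (((c : F) * c - 1) * ((c : F) * c + 1)) = 0 := by linear_combination h
      rcases mul_eq_zero.1 h' with e | e
      · rcases sq_eq_one_iff.1 (show (c : F) ^ 2 = 1 by linear_combination e) with e' | e'
        · left; rw [hc, e', one_smul]
        · right; rw [hc, e', neg_one_smul]
      · exact absurd ⟨(c : F), by linear_combination e⟩ hi
    let t : R ⧸ Z → Mat := fun c => ((c.out : R) : GL (Fin n) F)
    let av : Mat → Mat := fun X => ∑ c, (t c)ᵀ * X * t c
    have hav : ∀ X, ∀ x ∈ R, (x : Mat)ᵀ * av X * (x : Mat) = av X := by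
      intro X x hx
      simp only [av, Finset.mul_sum, Finset.sum_mul]
      refine Fintype.sum_equiv (Equiv.mulRight (QuotientGroup.mk ⟨x, hx⟩ : R ⧸ Z)) _ _ fun c => ?_
      rw [Equiv.coe_mulRight]
      dsimp only
      obtain ⟨z, hz⟩ := QuotientGroup.mk_out_eq_mul Z (c.out * ⟨x, hx⟩)
      have hc : c * QuotientGroup.mk ⟨x, hx⟩ = (QuotientGroup.mk (c.out * ⟨x, hx⟩) : R ⧸ Z) := by
        rw [QuotientGroup.mk_mul, QuotientGroup.out_eq']
      rw [hc]
      simp only [t, hz, Subgroup.coe_mul, Units.val_mul]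
      rcases hsgn _ (Subgroup.mem_subgroupOf.1 z.2) (z : R).2 with e | e <;> rw [e] <;>
        simp [Matrix.transpose_mul, mul_assoc]
    obtain ⟨i, j, hij⟩ : ∃ i j : Fin n, av (Matrix.single i j 1) ≠ 0 := by
      by_contra hc
      push Not at hc
      obtain ⟨c₀⟩ : Nonempty (R ⧸ Z) := inferInstance
      have hli : LinearIndependent F t := class_indep hRirr hRsc hRD
      refine ((c₀.out : R) : GL (Fin n) F).ne_zero (Matrix.ext fun i a => ?_)
      rw [Matrix.zero_apply]
      refine Fintype.linearIndependent_iff.1 hli (fun c => t c i a) ?_ c₀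
      ext j b
      have h1 := congrFun (congrFun (hc i j) a) b
      rw [Matrix.zero_apply] at h1
      change (∑ c, (t c)ᵀ * Matrix.single i j (1 : F) * t c : Mat) a b = 0 at h1
      rw [Matrix.sum_apply] at h1
      rw [Matrix.sum_apply, Matrix.zero_apply, ← h1]
      refine Finset.sum_congr rfl fun c _ => ?_
      simp [Matrix.mul_apply, Matrix.single_apply, ite_and]
    set X := av (Matrix.single i j 1)
    refine ⟨fun u v => u ⬝ᵥ (X *ᵥ v), ⟨fun x y v => add_dotProduct _ _ _, fun c x v => by simp,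
      fun v x y => by simp [Matrix.mulVec_add, dotProduct_add], fun c v x => by simp [Matrix.mulVec_smul]⟩,
      fun x hx u v => ?_, ?_⟩
    · conv_rhs => rw [show X = (x : Mat)ᵀ * X * (x : Mat) from (hav _ x hx).symm]
      dsimp only
      rw [← Matrix.mulVec_mulVec, ← Matrix.mulVec_mulVec, Matrix.dotProduct_mulVec _ ((x : Mat)ᵀ),
        Matrix.vecMul_transpose]
    · by_contra h
      push Not at h
      exact hij (Matrix.ext fun a b => by simpa using h (Pi.single a 1) (Pi.single b 1))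
  -- a monomial basis
  obtain ⟨i, hi⟩ := hi
  have hi0 : i ≠ 0 := fun e => by simp [e] at hi
  have hroot : ∀ s ∈ S, ∀ c : F, (s : Mat) = c • 1 → s ^ 4 = 1 → c = 1 ∨ c = -1 ∨ c = i ∨ c = -i := by
    intro s _ c hc h4
    have h := congrArg (fun g : GL (Fin n) F => (g : Mat) 0 0) h4
    rw [Units.val_pow_eq_pow_val, hc, _root_.smul_pow, one_pow] at h
    simp only [Matrix.smul_apply, Matrix.one_apply_eq, Units.val_one, smul_eq_mul, mul_one] at h
    have h' : (c - 1) * (c + 1) * (c - i) * (c + i) = 0 := by linear_combination h - (c ^ 2 - 1) * hi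
    simp only [mul_eq_zero, sub_eq_zero, add_eq_zero_iff_eq_neg] at h'
    tauto
  obtain ⟨β, hβ⟩ : ∃ β : Basis (Fin n) F V, ∀ g ∈ R, ∃ (π : Equiv.Perm (Fin n)) (a : Fin n → F),
      (∀ l, (g : Mat) *ᵥ β l = a l • β (π l)) ∧ ∀ l, a l = 1 ∨ a l = -1 ∨ a l = i ∨ a l = -i :=
    exists_monomial hn8 h2 hi hRirr hRsc hRD hR2 hR4 hroot hcard
  right
  obtain ⟨p, e, hp, hchar, he, hq⟩ := exists_char_pow F
  haveI := hchar
  haveI : Fact p.Prime := ⟨hp⟩
  have hp2 : p ≠ 2 := fun h => h2 (by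
    have := CharP.cast_eq_zero F p
    rw [h] at this
    exact_mod_cast this)
  have hp4 : p % 4 = 1 ∨ p % 4 = 3 := by
    have := hp.eq_two_or_odd.resolve_left hp2
    omega
  have hipow : i ^ p = if p % 4 = 1 then i else -i := by
    conv_lhs => rw [← Nat.div_add_mod p 4, pow_add, pow_mul, show i ^ 4 = 1 by linear_combination (i * i - 1) * hi,
      one_pow, one_mul]
    rcases hp4 with h | h <;> rw [h] <;> norm_num
    linear_combination i * hi
  have hpow1 : ∀ c : F, c = 1 ∨ c = -1 ∨ c = i ∨ c = -i → p % 4 = 1 → c ^ p = c := by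
    intro c hc h
    have hodd : Odd p := Nat.odd_iff.2 (by omega)
    rw [if_pos h] at hipow
    rcases hc with rfl | rfl | rfl | rfl <;> simp [hodd.neg_pow, hipow]
  have hpow2 : ∀ c : F, c = 1 ∨ c = -1 ∨ c = i ∨ c = -i → c ^ (p ^ 2) = c := by
    intro c hc
    have hodd : Odd p := hp.odd_of_ne_two hp2
    have hip : i ^ (p ^ 2) = i := by
      rw [pow_two, pow_mul, hipow]
      rcases hp4 with h | h
      · rw [if_pos h, hipow, if_pos h]
      · rw [if_neg (by omega), hodd.neg_pow, hipow, if_neg (by omega), neg_neg]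
    rcases hc with rfl | rfl | rfl | rfl <;> simp [(hodd.pow (n := 2)).neg_pow, hip]
  have hreal : ∀ d : ℕ, 0 < d → d < e → (∀ c : F, c = 1 ∨ c = -1 ∨ c = i ∨ c = -i → c ^ (p ^ d) = c) →
      ∃ F₀ : Subfield F, F₀ ≠ ⊤ ∧ Cfsg.Geo.RealisableOver F₀ (Cfsg.Geo.matrixSet R) := by
    intro d hd hde hfix
    let F₀ : Subfield F := RingHom.eqLocusField (iterateFrobenius F p d) (RingHom.id F)
    have hmem : ∀ a : F, a ∈ F₀ ↔ a ^ p ^ d = a := fun a => by
      show iterateFrobenius F p d a = a ↔ _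
      rw [iterateFrobenius_def]
    refine ⟨F₀, fun e' => ?_, ?_⟩
    · have h1 : 1 < p ^ d := Nat.one_lt_pow hd.ne' hp.one_lt
      have hne0 : (Polynomial.X ^ p ^ d - Polynomial.X : Polynomial F) ≠ 0 := FiniteField.X_pow_card_sub_X_ne_zero F h1
      have hsub : (Finset.univ : Finset F) ⊆ (Polynomial.X ^ p ^ d - Polynomial.X : Polynomial F).roots.toFinset :=
        fun a _ => Multiset.mem_toFinset.2 ((Polynomial.mem_roots hne0).2 (by
          simp [(hmem a).1 (e' ▸ Subfield.mem_top a)]))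
      have h2 := (Finset.card_le_card hsub).trans ((Multiset.toFinset_card_le _).trans (Polynomial.card_roots' _))
      rw [Finset.card_univ, hq, FiniteField.X_pow_card_sub_X_natDegree_eq F h1] at h2
      exact absurd ((Nat.pow_le_pow_iff_right hp.one_lt).1 h2) (by omega)
    let P : GL (Fin n) F := TransvMax.glOf β.equivFun.symm
    have hP : ∀ l, (P : Mat) *ᵥ (Pi.single l 1 : V) = β l := fun l => by
      show _ = β l
      rw [TransvMax.glOf_mulVec, Basis.equivFun_symm_apply]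
      simp [Pi.single_apply]
    refine ⟨P⁻¹, ?_⟩
    rintro _ ⟨g, hg, rfl⟩ l j
    obtain ⟨π, a, hga, ha⟩ := hβ g hg
    rw [inv_inv]
    have h1 : (((P⁻¹ : GL (Fin n) F) : Mat) * (g : Mat) * (P : Mat)) *ᵥ (Pi.single j 1 : V) =
        a j • (Pi.single (π j) 1 : V) := by
      rw [← Matrix.mulVec_mulVec, ← Matrix.mulVec_mulVec, hP, hga, Matrix.mulVec_smul, ← hP (π j),
        TransvMax.inv_mulVec_mulVec]
    have h2 := congrFun h1 l
    rw [Matrix.mulVec_single_one, Matrix.col_apply] at h2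
    rw [h2, Pi.smul_apply, smul_eq_mul]
    refine F₀.mul_mem ((hmem _).2 (hfix _ (ha j))) ?_
    by_cases h : l = π j
    · subst h; rw [Pi.single_eq_same]; exact F₀.one_mem
    · rw [Pi.single_eq_of_ne h]; exact F₀.zero_mem
  rcases hp4 with h4 | h4
  · by_cases he1 : e = 1
    · subst he1
      rw [pow_one] at hq
      refine .inr (.inr ⟨⟨p, hp, hq, h4⟩, ?_⟩)
      have hex : ∃ x ∈ R, x ∉ S := by
        by_contra hc
        push Not at hc
        exact hNs fun x hx => by
          obtain ⟨s, hs, hxs⟩ := hlift x hx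
          simpa using S.mul_mem (hc _ hxs) (S.inv_mem hs)
      refine ⟨?_, hex⟩
      let I : GL (Fin n) F := ⟨i • 1, (-i) • 1, by rw [smul_mul_smul_comm, one_mul, mul_neg, hi, neg_neg, one_smul],
        by rw [smul_mul_smul_comm, one_mul, neg_mul, hi, neg_neg, one_smul]⟩
      have hIs : I ∈ S := (Cfsg.Geo.mem_scalars_iff I).2 ⟨Units.mk0 i hi0, rfl⟩
      have hI2 : ((I ^ 2 : GL (Fin n) F) : Mat) = -1 := by
        rw [pow_two, Units.val_mul, show (I : Mat) = i • 1 from rfl, smul_mul_smul_comm, one_mul, hi, neg_one_smul]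
      have hI4 : I ^ 4 = 1 := Units.ext (by
        rw [show 4 = 2 * 2 from rfl, pow_mul, Units.val_pow_eq_pow_val, hI2, neg_one_sq, Units.val_one])
      have hIR : I ∈ R := ⟨hI4, 1, N.one_mem, I, hIs, (one_mul I).symm⟩
      have hI2ne : I ^ 2 ≠ 1 := fun e => by
        have h := congrFun (congrFun (hI2.symm.trans (congrArg Units.val e)) 0) 0
        simp only [Matrix.neg_apply, Matrix.one_apply_eq, Units.val_one] at h
        exact h2 (by linear_combination -h)
      have hordI : orderOf (⟨I, hIR⟩ : R) = 4 := by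
        rw [← Subgroup.orderOf_coe]
        exact orderOf_eq_prime_pow (p := 2) (n := 1) (by simpa using hI2ne) (by simpa using hI4)
      have hcenter : Subgroup.center R = Z := by
        refine le_antisymm (fun g hg => Subgroup.mem_subgroupOf.2 (mem_scalars_of_commutant hnpos hRsc fun x hx => ?_))
          fun g hg => Subgroup.mem_center_iff.2 fun x => Subtype.ext (scalar_comm (Subgroup.mem_subgroupOf.1 hg) _).symm
        exact congrArg Subtype.val (Subgroup.mem_center_iff.1 hg ⟨x, hx⟩).symm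
      have hZI : Z = Subgroup.zpowers (⟨I, hIR⟩ : R) := by
        refine le_antisymm (fun g hg => ?_) (Subgroup.zpowers_le.2 (Subgroup.mem_subgroupOf.2 hIs))
        have hgs := Subgroup.mem_subgroupOf.1 hg
        obtain ⟨c, hc⟩ := (Cfsg.Geo.mem_scalars_iff _).1 hgs
        have hk : ∃ k : ℕ, (c : F) = i ^ k := by
          rcases hroot _ hgs _ hc (hR4 _ g.2) with h | h | h | h
          · exact ⟨0, by simpa using h⟩
          · exact ⟨2, by rw [h, pow_two, hi]⟩
          · exact ⟨1, by simpa using h⟩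
          · exact ⟨3, by rw [h, pow_succ, pow_two, hi, neg_one_mul]⟩
        obtain ⟨k, hk⟩ := hk
        refine ⟨k, ?_⟩
        dsimp only
        rw [zpow_natCast]
        refine Subtype.ext (Units.ext ?_)
        rw [SubgroupClass.coe_pow, Units.val_pow_eq_pow_val, show (I : Mat) = i • 1 from rfl, _root_.smul_pow, one_pow,
          hc, hk]
      have hcZ : Nat.card (Subgroup.center R) = 4 := by rw [hcenter, hZI, Nat.card_zpowers, hordI]
      refine ⟨⟨Nat.prime_two, fun g => ⟨2, by exact Subtype.ext (hR4 g g.2)⟩, fun A hA hAc => ?_, ?_⟩,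
        absIrred_matrixSet hRirr hRsc, p, 1, hp2.symm, ⟨hp, hchar, by rw [pow_one, hq], by rw [hcZ, pow_one]; omega,
          fun d hd hd1 => by omega⟩, .inr (.inl ⟨rfl, rfl, hcZ, by simp [hn8], 3, ?_⟩)⟩
      · -- characteristic abelian subgroups
        suffices hAZ : A ≤ Z by
          haveI : IsCyclic Z := by rw [hZI]; infer_instance
          exact isCyclic_of_injective (Subgroup.inclusion hAZ) (Subgroup.inclusion_injective hAZ)
        intro g hg
        rw [Subgroup.mem_subgroupOf]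
        by_contra hgs
        obtain ⟨-, x, hx, s, hs, hxs⟩ := g.2
        let A' : Subgroup (GL (Fin n) F) := A.map R.subtype ⊔ S
        have hA'n : ∀ h ∈ H, ∀ y ∈ A', h * y * h⁻¹ ∈ A' := by
          intro h hh y hy
          haveI := hS
          obtain ⟨a, ha, t, ht, rfl⟩ := Subgroup.mem_sup_of_normal_right.1 hy
          obtain ⟨a, haA, rfl⟩ := ha
          rw [show h * (R.subtype a * t) * h⁻¹ = (h * R.subtype a * h⁻¹) * t by
            rw [mul_assoc (h * R.subtype a), ← scalar_comm ht h⁻¹]; group]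
          refine Subgroup.mem_sup_of_normal_right.2 ⟨_, ?_, t, ht, rfl⟩
          let φ : R ≃* R :=
            { toFun := fun z => ⟨h * z * h⁻¹, hRn h hh z z.2⟩
              invFun := fun z => ⟨h⁻¹ * z * h, by simpa using hRn h⁻¹ (H.inv_mem hh) z z.2⟩
              left_inv := fun z => Subtype.ext (by simp [mul_assoc])
              right_inv := fun z => Subtype.ext (by simp [mul_assoc])
              map_mul' := fun z z' => Subtype.ext (by simp [mul_assoc]) }
          refine ⟨φ a, ?_, rfl⟩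
          have := Subgroup.characteristic_iff_comap_eq.1 hA φ
          exact (this.ge haA : a ∈ A.comap φ.toMonoidHom)
        have hxA : x ∈ A' ⊓ N := ⟨by
          haveI := hS
          exact Subgroup.mem_sup_of_normal_right.2 ⟨g, ⟨g, hg, rfl⟩, s⁻¹, S.inv_mem hs, by rw [hxs, mul_inv_cancel_right]⟩, hx⟩
        have hxS : x ∉ S := fun h => hgs (by rw [hxs]; exact S.mul_mem h hs)
        have hAN := hmin (A' ⊓ N) inf_le_right (fun h hh y hy => ⟨hA'n h hh y hy.1, hNn h hh y hy.2⟩)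
          fun h => hxS (h hxA)
        refine hxy₀ ?_
        haveI := hS
        obtain ⟨a, ⟨a, ha, rfl⟩, t, ht, hx'⟩ := Subgroup.mem_sup_of_normal_right.1 (hAN.ge hx₀).1
        obtain ⟨a', ⟨a', ha', rfl⟩, t', ht', hy'⟩ := Subgroup.mem_sup_of_normal_right.1 (hAN.ge hy₀).1
        rw [← hx', ← hy']
        have hcA : (a : GL (Fin n) F) * a' = a' * a :=
          congrArg (Subtype.val : R → GL (Fin n) F) (congrArg Subtype.val (hAc.is_comm.comm (⟨a, ha⟩ : A) ⟨a', ha'⟩) :)
        have h1 : Commute (a : GL (Fin n) F) t' := (scalar_comm ht' _).symm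
        have h2 : Commute t ((a' : GL (Fin n) F) * t') := scalar_comm ht _
        exact ((Commute.mul_right hcA h1).mul_left h2).eq
      · refine Nat.dvd_antisymm (Monoid.exponent_dvd_of_forall_pow_eq_one fun g => Subtype.ext ?_) ?_
        · simpa using hR4 g g.2
        · have := Monoid.order_dvd_exponent (⟨I, hIR⟩ : R)
          rw [hordI] at this
          simpa using this
      · rw [Subgroup.card_eq_card_quotient_mul_card_subgroup Z, hcard, ← hcenter, hcZ, hn8]
        norm_num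
    · exact .inl (hreal 1 one_pos (by omega) fun c hc => by simpa using hpow1 c hc h4)
  · have he2 : 2 ≤ e := by
      by_contra hlt
      obtain rfl : e = 1 := by omega
      have h5 := FiniteField.pow_card i
      rw [hq, pow_one, hipow, if_neg (by omega)] at h5
      exact hi0 ((mul_eq_zero.1 (show (2 : F) * i = 0 by linear_combination -h5)).resolve_left h2)
    rcases he2.lt_or_eq with he3 | he3
    · exact .inl (hreal 2 (by norm_num) he3 hpow2)
    · subst he3
      refine .inr (.inl ?_)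
      let σ : F ≃+* F := RingEquiv.ofBijective (iterateFrobenius F p 1) (bijective_iterateFrobenius F p 1)
      have hσ : ∀ a, σ a = a ^ p := fun a => by
        show iterateFrobenius F p 1 a = _
        rw [iterateFrobenius_def, pow_one]
      have hinv : ∀ a, σ (σ a) = a := fun a => by
        rw [hσ, hσ, ← pow_mul, ← pow_two, ← hq, FiniteField.pow_card]
      have hne : σ ≠ RingEquiv.refl F := fun e' => by
        have h5 : σ i = i := by rw [e']; rfl
        rw [hσ, hipow, if_neg (by omega)] at h5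
        exact hi0 ((mul_eq_zero.1 (show (2 : F) * i = 0 by linear_combination -h5)).resolve_left h2)
      refine ⟨σ, stdForm σ β, stdForm_unitary hne hinv β, ?_⟩
      rintro _ ⟨g, hg, rfl⟩ u w
      obtain ⟨π, a, hga, ha⟩ := hβ g hg
      refine monomial_fixes σ hga (fun l => ?_) u w
      rcases ha l with h | h | h | h <;> rw [h] <;>
        simp [hσ, (hp.odd_of_ne_two hp2).neg_pow, hipow, show p % 4 ≠ 1 by omega, hi]

end Cfsg.Agent.Eight
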