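import Cfsg.Agent.Lib.Eight.Field

/-!
A perfect absolutely irreducible minimal normal subgroup in degree eight is simple modulo scalars.
-/

set_option autoImplicit false
set_option maxHeartbeats 400000

namespace Cfsg.Agent.Eight

open scoped Matrix MatrixGroups commutatorElement
open Module PrimeDim TwoPrime

variable {n : ℕ} {F : Type*} [Field F]

local notation "V" => Fin n → F

local notation "Mat" => Matrix (Fin n) (Fin n) F

open Twelve (Constituent centralises_field)

/-- An invariant bilinear form. -/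
def NoForm (N : Subgroup (GL (Fin n) F)) : Prop :=
  ∀ f : V → V → F, Cfsg.Geo.IsBilinearForm f →
    (∀ x ∈ N, ∀ u v, f ((x : Mat) *ᵥ u) ((x : Mat) *ᵥ v) = f u v) → ∀ u v, f u v = 0

/-- Perfect groups have determinant one. -/
theorem perfect_det {M : Subgroup (GL (Fin n) F)} (hM : ⁅M, M⁆ = M) {d : ℕ} (ρ : M →* GL (Fin d) F) (x : M) :
    (ρ x : Matrix (Fin d) (Fin d) F).det = 1 := by
  have hx : x ∈ commutator M := by
    rw [← Subgroup.mem_map_iff_mem M.subtype_injective, Subgroup.map_subtype_commutator, hM]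
    exact x.2
  have hle : commutator M ≤ (Matrix.GeneralLinearGroup.det.comp ρ).ker := by
    rw [commutator_def, Subgroup.commutator_le]
    intro a _ c _
    rw [MonoidHom.mem_ker, map_commutatorElement, commutatorElement_def, mul_comm ((Matrix.GeneralLinearGroup.det.comp ρ) a)]
    group
  exact congrArg Units.val (hle hx)

/-- An irreducible group generated by commuting perfect subgroups with two-dimensional constituents fixes a form. -/
theorem family_form [Finite F] : ∀ (n : ℕ) [NeZero n] {κ : Type*} (M : κ → Subgroup (GL (Fin n) F)) (d : ℕ), 1 < d →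
    (∀ i, ⁅M i, M i⁆ = M i) → (∀ i, ¬ ∀ x ∈ M i, ∀ y ∈ M i, x * y = y * x) →
    (∀ i j, M i = M j ∨ ∀ x ∈ M i, ∀ y ∈ M j, x * y = y * x) → Irr (⨆ i, M i) →
    (∀ i, Constituent (M i) d) → d = 2 → ∃ f : (Fin n → F) → (Fin n → F) → F, Cfsg.Geo.IsBilinearForm f ∧
      (∀ x ∈ ⨆ i, M i, ∀ u v, f ((x : Matrix (Fin n) (Fin n) F) *ᵥ u) ((x : Matrix (Fin n) (Fin n) F) *ᵥ v) = f u v) ∧ ∃ u v, f u v ≠ 0 := by
  intro n
  induction n using Nat.strong_induction_on with
  | _ n ih =>
  intro _ κ M d hd hperf hnc hpair hirr hdata hd2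
  classical
  by_cases hκ : IsEmpty κ
  · refine ⟨fun u v => u 0 * v 0, ⟨fun _ _ _ => add_mul _ _ _, fun _ _ _ => mul_assoc _ _ _, fun _ _ _ => mul_add _ _ _,
      fun c v x => mul_left_comm _ _ _⟩, fun x hx u v => ?_, Pi.single 0 1, Pi.single 0 1, by simp⟩
    rw [iSup_of_empty, Subgroup.mem_bot] at hx
    simp [hx]
  obtain ⟨i₀⟩ := not_isEmpty_iff.1 hκ
  obtain ⟨ρ₀, hρi, hρc, φ, hφ, hφe⟩ := hdata i₀
  have hW := Constituent.minInv (by omega) hρi hφ hφe
  have hfin : finrank F (LinearMap.range φ) = d := by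
    rw [LinearMap.finrank_range_of_inj hφ, finrank_fintype_fun_eq_card, Fintype.card_fin]
  by_cases hW1 : LinearMap.range φ = ⊤
  · subst hd2
    let φe : (Fin 2 → F) ≃ₗ[F] (Fin n → F) := LinearEquiv.ofBijective φ ⟨hφ, LinearMap.range_eq_top.1 hW1⟩
    refine ⟨fun u v => φe.symm u 0 * φe.symm v 1 - φe.symm u 1 * φe.symm v 0, ?_, ?_, φe (Pi.single 0 1),
      φe (Pi.single 1 1), by simp⟩
    · constructor <;> intros <;> simp only [map_add, map_smul, Pi.add_apply, Pi.smul_apply, smul_eq_mul] <;> ring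
    have hdet := perfect_det (hperf i₀) ρ₀
    have hiso : ∀ y : M i₀, ∀ u, φe.symm (((y : GL (Fin n) F) : Matrix (Fin n) (Fin n) F) *ᵥ u) =
        (ρ₀ y : Matrix (Fin 2) (Fin 2) F) *ᵥ φe.symm u := fun y u => φe.injective (by
      rw [LinearEquiv.apply_symm_apply]
      show _ = φ _
      rw [← hφe]
      show _ = _ *ᵥ φe _
      rw [LinearEquiv.apply_symm_apply])
    intro x hx
    induction hx using Subgroup.iSup_induction' with
    | hp i x hx =>
      intro u v
      rcases hpair i i₀ with e | e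
      · have hu := hiso ⟨x, e ▸ hx⟩ u
        have hv := hiso ⟨x, e ▸ hx⟩ v
        simp only [] at hu hv ⊢
        rw [hu, hv]
        have hd := hdet ⟨x, e ▸ hx⟩
        rw [Matrix.det_fin_two] at hd
        simp only [Matrix.mulVec, dotProduct, Fin.sum_univ_two]
        linear_combination (φe.symm u 0 * φe.symm v 1 - φe.symm u 1 * φe.symm v 0) * hd
      · exfalso
        -- a commuting subgroup would consist of scalars
        have hall : ∀ y ∈ M i, ∃ c : F, (y : Matrix (Fin n) (Fin n) F) = c • 1 := by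
          intro y hy
          obtain ⟨c, hc⟩ := hρc (LinearMap.toMatrix' (φe.symm.toLinearMap.comp
            ((Matrix.toLin' (y : Matrix (Fin n) (Fin n) F)).comp φe.toLinearMap))) (by
            rintro _ ⟨z, rfl⟩
            refine Matrix.ext_iff_mulVec.2 fun w => ?_
            simp only [← Matrix.mulVec_mulVec, LinearMap.toMatrix'_mulVec, LinearMap.comp_apply, LinearEquiv.coe_coe,
              Matrix.toLin'_apply]
            have hz : φe ((ρ₀ z : Matrix (Fin 2) (Fin 2) F) *ᵥ w) =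
                ((z : GL (Fin n) F) : Matrix (Fin n) (Fin n) F) *ᵥ φe w := (hφe z w).symm
            rw [hz, Matrix.mulVec_mulVec, ← Units.val_mul, e y hy z z.2, Units.val_mul, ← Matrix.mulVec_mulVec, hiso])
          refine ⟨c, Matrix.ext_iff_mulVec.2 fun v => ?_⟩
          obtain ⟨w, rfl⟩ := φe.surjective v
          have h1 := congrArg (fun Z => φe (Z *ᵥ w)) hc
          simpa [LinearMap.toMatrix'_mulVec, Matrix.smul_mulVec] using h1
        refine hnc i fun y hy z _ => Units.ext ?_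
        obtain ⟨c, hc⟩ := hall y hy
        simp [hc]
    | h1 => intro u v; simp
    | hmul a b _ _ ha hb => intro u v; rw [Units.val_mul, ← Matrix.mulVec_mulVec, ← Matrix.mulVec_mulVec, ha, hb]
  have hnorm : ∀ g ∈ ⨆ i, M i, ∀ x ∈ M i₀, g * x * g⁻¹ ∈ M i₀ := by
    intro g hg
    induction hg using Subgroup.iSup_induction' with
    | hp i g hg =>
      intro x hx
      rcases hpair i i₀ with e | e
      · exact (M i₀).mul_mem ((M i₀).mul_mem (e ▸ hg) hx) ((M i₀).inv_mem (e ▸ hg))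
      · rw [e g hg x hx, mul_inv_cancel_right]; exact hx
    | h1 => intro x hx; simpa using hx
    | hmul a b _ _ ha hb =>
      intro x hx
      have := ha _ (hb x hx)
      simpa [mul_assoc] using this
  have hns : ¬ M i₀ ≤ Cfsg.Geo.scalars (Fin n) F := fun h => hnc i₀ fun x hx y _ => scalar_comm (h hx) y
  rcases clifford_at hirr hnorm hns hW hW1 with ⟨c, s, D, hD⟩ | ⟨k, d', hkd, hd', -, hk1, ⟨T⟩⟩
  · exfalso
    have hinv : ∀ i, Inv (⨆ i, M i) (D i) := by
      intro l g hg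
      induction hg using Subgroup.iSup_induction' with
      | hp i g hg =>
        intro v hv
        rcases hpair i i₀ with e | e
        · exact hD.inv l g (e ▸ hg) v hv
        · exact hD.comm_fix g (fun x hx => e g hg x hx) l v hv
      | h1 => intro v hv; simpa using hv
      | hmul a b _ _ ha hb => intro v hv; rw [Units.val_mul, ← Matrix.mulVec_mulVec]; exact ha _ (hb v hv)
    have hc := hD.two_le
    rcases hirr (D ⟨0, by omega⟩) (hinv _) with h | h
    · have := hD.decomp.finrank_eq ⟨0, by omega⟩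
      rw [h, finrank_bot] at this
      exact absurd this (Nat.ne_of_lt hD.decomp.pos)
    · have := hD.decomp.finrank_eq ⟨0, by omega⟩
      rw [h, finrank_top, finrank_fintype_fun_eq_card, Fintype.card_fin, ← hD.mul_eq] at this
      have := hD.decomp.pos
      nlinarith
  rw [hfin] at hd'
  subst hd'
  let l0 : Fin d' := ⟨0, by omega⟩
  let j0 : Fin k := ⟨0, by omega⟩
  let col : Fin d' → (Fin n → F) →ₗ[F] (Fin k → F) := fun l =>
    LinearMap.pi fun i => (Finsupp.lapply ((i, l) : Fin k × Fin d')).comp T.β.repr.toLinearMap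
  -- absolute irreducibility of the block
  have hsc : ScalarCommutant T.ρ.range := by
    obtain ⟨i, hi⟩ : ∃ i : Fin k, (fun a => T.β.repr (φ (Pi.single l0 1)) (i, a)) ≠ 0 := by
      by_contra h
      push Not at h
      have h0 : φ (Pi.single l0 1) = 0 := T.β.ext_elem fun p => by simpa using congrFun (h p.1) p.2
      have h1 : Pi.single l0 (1 : F) = 0 := hφ (h0.trans (map_zero φ).symm)
      simpa using congrFun h1 l0
    let θ : (Fin d' → F) →ₗ[F] (Fin d' → F) :=
      (LinearMap.pi fun a => (Finsupp.lapply ((i, a) : Fin k × Fin d')).comp T.β.repr.toLinearMap).comp φ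
    have hθe : ∀ (x : M i₀) w, θ ((ρ₀ x : Matrix (Fin d') (Fin d') F) *ᵥ w) =
        (T.ρ x : Matrix (Fin d') (Fin d') F) *ᵥ θ w := fun x w => by
      show (fun a => T.β.repr (φ _) (i, a)) = _
      rw [← hφe, T.repr_act]
      rfl
    have hθi : Function.Injective θ := by
      rw [← LinearMap.ker_eq_bot]
      refine (hρi _ ?_).resolve_right fun h => hi (LinearMap.mem_ker.1 (h ▸ Submodule.mem_top :
        Pi.single l0 (1 : F) ∈ LinearMap.ker θ))
      rintro _ ⟨x, rfl⟩ w hw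
      rw [LinearMap.mem_ker] at hw ⊢
      rw [hθe, hw, Matrix.mulVec_zero]
    let θe : (Fin d' → F) ≃ₗ[F] (Fin d' → F) :=
      LinearEquiv.ofBijective θ ⟨hθi, LinearMap.injective_iff_surjective.1 hθi⟩
    intro A hA
    obtain ⟨c, hc⟩ := hρc (LinearMap.toMatrix' (θe.symm.toLinearMap.comp ((Matrix.toLin' A).comp θ))) (by
      rintro _ ⟨x, rfl⟩
      refine Matrix.ext_iff_mulVec.2 fun w => θe.injective ?_
      simp only [← Matrix.mulVec_mulVec, LinearMap.toMatrix'_mulVec, LinearMap.comp_apply, LinearEquiv.coe_coe,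
        LinearEquiv.apply_symm_apply, Matrix.toLin'_apply]
      rw [hθe, Matrix.mulVec_mulVec, hA _ ⟨x, rfl⟩, ← Matrix.mulVec_mulVec]
      show _ = θ _
      rw [hθe]
      congr 1
      exact (θe.apply_symm_apply _).symm)
    refine ⟨c, Matrix.ext_iff_mulVec.2 fun v => ?_⟩
    obtain ⟨w, rfl⟩ := θe.surjective v
    have h1 := congrArg (fun Z => θe (Z *ᵥ w)) hc
    simp only [LinearMap.toMatrix'_mulVec, LinearMap.comp_apply, LinearEquiv.coe_coe, LinearEquiv.apply_symm_apply,
      Matrix.toLin'_apply, Matrix.smul_mulVec, Matrix.one_mulVec, map_smul] at h1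
    rw [Matrix.smul_mulVec, Matrix.one_mulVec]
    exact h1
  let κ' := {i : κ // M i ≠ M i₀}
  have hcomm : ∀ i : κ', ∀ y ∈ M i.1, ∀ x ∈ M i₀, y * x = x * y := fun i => (hpair i.1 i₀).resolve_left i.2
  let B : ∀ i : κ', M i.1 → Matrix (Fin k) (Fin k) F := fun i y => Matrix.of fun a j =>
    T.β.repr (((y : GL (Fin n) F) : Matrix (Fin n) (Fin n) F) *ᵥ T.β (j, l0)) (a, l0)
  have hB : ∀ (i : κ') (y : M i.1) j l,
      ((y : GL (Fin n) F) : Matrix (Fin n) (Fin n) F) *ᵥ T.β (j, l) = ∑ a, B i y a j • T.β (a, l) := by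
    intro i y j l
    obtain ⟨C, A, hform, hA⟩ := T.normalizer_form hsc (g := (y : GL (Fin n) F)) (fun x hx => by
      rw [hcomm i y y.2 x hx, mul_inv_cancel_right]; exact hx)
    have hA1 : A = 1 := hA fun x hx => hcomm i y y.2 x hx
    have h1 : ∀ l, ((y : GL (Fin n) F) : Matrix (Fin n) (Fin n) F) *ᵥ T.β (j, l) = ∑ a, C a j • T.β (a, l) :=
      fun l => by
        rw [hform, hA1]
        simp [Matrix.one_apply]
    have h2 : ∀ a, B i y a j = C a j := fun a => by simp [B, h1 l0, Finsupp.single_apply]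
    rw [h1]
    simp only [h2]
  have hcol : ∀ (i : κ') (y : M i.1) (v : Fin n → F) l,
      col l (((y : GL (Fin n) F) : Matrix (Fin n) (Fin n) F) *ᵥ v) = B i y *ᵥ col l v := by
    intro i y v l
    funext a
    show T.β.repr _ (a, l) = _
    conv_lhs => rw [← T.β.sum_repr v, Matrix.mulVec_sum]
    simp [col, Matrix.mulVec_smul, hB, Fintype.sum_prod_type, Matrix.mulVec, dotProduct, Finsupp.single_apply,
      ite_and, mul_comm]
  let σ : ∀ i : κ', M i.1 →* GL (Fin k) F := fun i => MonoidHom.toHomUnits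
    { toFun := B i
      map_one' := by ext a j; simp [B, Finsupp.single_apply, Matrix.one_apply, eq_comm]
      map_mul' := fun y y' => by
        ext a j
        have h := congrFun (hcol i y (((y' : GL (Fin n) F) : Matrix (Fin n) (Fin n) F) *ᵥ T.β (j, l0)) l0) a
        rw [Matrix.mulVec_mulVec] at h
        exact h }
  have hσ : ∀ i y, (σ i y : Matrix (Fin k) (Fin k) F) = B i y := fun i y => rfl
  have hσi : ∀ i, Function.Injective (σ i) := by
    intro i y y' h
    refine Subtype.ext (Units.ext (Matrix.toLin'.injective (T.β.ext fun p => ?_)))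
    obtain ⟨j, l⟩ := p
    rw [Matrix.toLin'_apply, Matrix.toLin'_apply, hB, hB, ← hσ, ← hσ, h]
  have hrange : ∀ i j : κ', M i.1 = M j.1 → (σ i).range ≤ (σ j).range := by
    rintro i j h _ ⟨y, rfl⟩
    exact ⟨⟨y, h ▸ y.2⟩, Units.ext rfl⟩
  haveI : NeZero k := ⟨by omega⟩
  refine (ih k ?_ (fun i : κ' => (σ i).range) d' hd (fun i => ?_) (fun i h => ?_) (fun i j => ?_) ?_
    (fun i => ?_) hd2).elim fun f' ⟨hb', hfix, u₀, v₀, huv⟩ => ?_
  · nlinarith
  · rw [MonoidHom.range_eq_map, ← Subgroup.map_commutator]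
    congr 1
    refine (Subgroup.map_injective (M i.1).subtype_injective) ?_
    rw [Subgroup.map_commutator, ← MonoidHom.range_eq_map, Subgroup.range_subtype]
    exact hperf i.1
  · refine hnc i.1 fun x hx y hy => ?_
    have h1 := h _ ⟨⟨x, hx⟩, rfl⟩ _ ⟨⟨y, hy⟩, rfl⟩
    rw [← map_mul, ← map_mul] at h1
    exact congrArg Subtype.val (hσi i h1)
  · rcases hpair i.1 j.1 with h | h
    · exact .inl (le_antisymm (hrange i j h) (hrange j i h.symm))
    · refine .inr ?_
      rintro _ ⟨x, rfl⟩ _ ⟨y, rfl⟩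
      refine Units.ext ?_
      rw [Units.val_mul, Units.val_mul, hσ, hσ]
      refine Matrix.ext_iff_mulVec.2 fun u => ?_
      have hu : col l0 (∑ j, u j • T.β (j, l0)) = u := by
        funext a; simp [col, Finsupp.single_apply]
      rw [← hu, ← Matrix.mulVec_mulVec, ← Matrix.mulVec_mulVec, ← hcol, ← hcol, ← hcol, ← hcol, Matrix.mulVec_mulVec,
        Matrix.mulVec_mulVec, ← Units.val_mul, ← Units.val_mul, h _ x.2 _ y.2]
  · intro U hU
    let U' : Submodule F (Fin n → F) := ⨅ l, U.comap (col l)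
    have hU' : ∀ v, v ∈ U' ↔ ∀ l, col l v ∈ U := fun v => by simp [U', Submodule.mem_iInf]
    have hinv : Inv (⨆ i, M i) U' := by
      intro g hg
      induction hg using Subgroup.iSup_induction' with
      | hp i g hg =>
        intro v hv
        rw [hU'] at hv ⊢
        intro a
        by_cases hi : M i = M i₀
        · have h1 : col a ((g : Matrix (Fin n) (Fin n) F) *ᵥ v) =
              ∑ l, (T.ρ ⟨g, hi ▸ hg⟩ : Matrix (Fin d') (Fin d') F) a l • col l v := by
            funext j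
            have := congrFun (T.repr_act ⟨g, hi ▸ hg⟩ v j) a
            simpa [col, Matrix.mulVec, dotProduct] using this
          rw [h1]
          exact U.sum_mem fun l _ => U.smul_mem _ (hv l)
        · rw [hcol ⟨i, hi⟩ ⟨g, hg⟩, ← hσ]
          exact hU _ (Subgroup.mem_iSup_of_mem (⟨i, hi⟩ : κ') ⟨⟨g, hg⟩, rfl⟩) _ (hv a)
      | h1 => intro v hv; simpa using hv
      | hmul a b _ _ ha hb => intro v hv; rw [Units.val_mul, ← Matrix.mulVec_mulVec]; exact ha _ (hb v hv)
    have hemb : ∀ (u : Fin k → F) l, col l (∑ j, u j • T.β (j, l0)) = if l = l0 then u else 0 := by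
      intro u l
      funext a
      by_cases h : l = l0 <;> simp [col, h, Finsupp.single_apply, Ne.symm]
    rcases hirr U' hinv with h | h
    · left
      refine (Submodule.eq_bot_iff _).2 fun u hu => ?_
      have h1 : ∑ j, u j • T.β (j, l0) ∈ U' := (hU' _).2 fun l => by
        rw [hemb]; split
        · exact hu
        · exact U.zero_mem
      rw [h, Submodule.mem_bot] at h1
      have h2 := hemb u l0
      rw [h1, if_pos rfl, map_zero] at h2
      exact h2.symm
    · right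
      refine top_unique fun u _ => ?_
      have h1 := (hU' (∑ j, u j • T.β (j, l0))).1 (h ▸ Submodule.mem_top) l0
      rwa [hemb, if_pos rfl] at h1
  · obtain ⟨ρ, hi', hc', ψ, hψ, hψe⟩ := hdata i.1
    let e := MonoidHom.ofInjective (hσi i)
    obtain ⟨l, hl⟩ : ∃ l, col l (ψ (Pi.single l0 1)) ≠ 0 := by
      by_contra h
      push Not at h
      have h0 : ψ (Pi.single l0 1) = 0 := T.β.ext_elem fun p => by simpa [col] using congrFun (h p.2) p.1
      have h1 : Pi.single l0 (1 : F) = 0 := hψ (h0.trans (map_zero ψ).symm)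
      simpa using congrFun h1 l0
    have hes : Function.Surjective e.symm.toMonoidHom := e.symm.surjective
    have hee : ∀ (x : (σ i).range) w, ((x : GL (Fin k) F) : Matrix (Fin k) (Fin k) F) *ᵥ (col l).comp ψ w =
        (col l).comp ψ ((ρ (e.symm x) : Matrix (Fin d') (Fin d') F) *ᵥ w) := by
      intro x w
      obtain ⟨y, rfl⟩ := e.surjective x
      rw [MulEquiv.symm_apply_apply, LinearMap.comp_apply, LinearMap.comp_apply, ← hψe, hcol]
      rfl
    refine ⟨ρ.comp e.symm.toMonoidHom, ?_, ?_, (col l).comp ψ, ?_, hee⟩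
    · rw [MonoidHom.range_comp, MonoidHom.range_eq_top.2 hes, ← MonoidHom.range_eq_map]; exact hi'
    · rw [MonoidHom.range_comp, MonoidHom.range_eq_top.2 hes, ← MonoidHom.range_eq_map]; exact hc'
    · rw [← LinearMap.ker_eq_bot]
      refine (hi' _ ?_).resolve_right fun h => hl (LinearMap.mem_ker.1 (h ▸ Submodule.mem_top :
        Pi.single l0 (1 : F) ∈ LinearMap.ker ((col l).comp ψ)))
      rintro _ ⟨y, rfl⟩ w hw
      rw [LinearMap.mem_ker] at hw ⊢
      have := hee (e y) w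
      rw [MulEquiv.symm_apply_apply, hw, Matrix.mulVec_zero] at this
      exact this.symm
  subst hd2
  refine ⟨fun u v => f' (col 0 u) (col 1 v) - f' (col 1 u) (col 0 v), ?_, ?_, ∑ j, u₀ j • T.β (j, 0),
    ∑ j, v₀ j • T.β (j, 1), ?_⟩
  · constructor <;> intros <;>
      simp only [map_add, map_smul, hb'.add_left, hb'.add_right, hb'.smul_left, hb'.smul_right] <;> ring
  · have hdet := perfect_det (hperf i₀) T.ρ
    intro x hx
    induction hx using Subgroup.iSup_induction' with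
    | hp i x hx =>
      intro u v
      by_cases hi : M i = M i₀
      · have h1 : ∀ w a, col a ((x : Matrix (Fin n) (Fin n) F) *ᵥ w) =
            ∑ l, (T.ρ ⟨x, hi ▸ hx⟩ : Matrix (Fin 2) (Fin 2) F) a l • col l w := by
          intro w a
          funext j
          have := congrFun (T.repr_act ⟨x, hi ▸ hx⟩ w j) a
          simpa [col, Matrix.mulVec, dotProduct] using this
        have hd := hdet ⟨x, hi ▸ hx⟩
        rw [Matrix.det_fin_two] at hd
        simp only [h1, Fin.sum_univ_two, hb'.add_left, hb'.add_right, hb'.smul_left, hb'.smul_right]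
        linear_combination (f' (col 0 u) (col 1 v) - f' (col 1 u) (col 0 v)) * hd
      · simp only [hcol ⟨i, hi⟩ ⟨x, hx⟩, ← hσ]
        rw [hfix _ (Subgroup.mem_iSup_of_mem (⟨i, hi⟩ : κ') ⟨⟨x, hx⟩, rfl⟩),
          hfix _ (Subgroup.mem_iSup_of_mem (⟨i, hi⟩ : κ') ⟨⟨x, hx⟩, rfl⟩)]
    | h1 => intro u v; simp
    | hmul a b _ _ ha hb => intro u v; rw [Units.val_mul, ← Matrix.mulVec_mulVec, ← Matrix.mulVec_mulVec, ha, hb]
  · have e : ∀ (w : Fin k → F) (l a : Fin 2), col a (∑ j, w j • T.β (j, l)) = if a = l then w else 0 := by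
      intro w l a
      funext j
      by_cases h : a = l <;> simp [col, h, Finsupp.single_apply, Ne.symm]
    have h0 : f' 0 0 = 0 := by simpa using hb'.smul_left 0 0 0
    simpa [e, h0] using huv

/-- The key point: a conjugate cannot centralise. -/
theorem no_commuting_conjugate [Fintype F] [NeZero n] (hn8 : n = 8)
    {H N M0 : Subgroup (GL (Fin n) F)} (hNn : ∀ g ∈ H, ∀ x ∈ N, g * x * g⁻¹ ∈ N) (hN : Irr N) (hNsc : ScalarCommutant N) (hNperf : ⁅N, N⁆ = N) (hform : NoForm N)
    (hmin : ∀ R : Subgroup (GL (Fin n) F), R ≤ N → (∀ g ∈ H, ∀ x ∈ R, g * x * g⁻¹ ∈ R) →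
      ¬ R ≤ Cfsg.Geo.scalars (Fin n) F → R = N)
    (hM0 : M0 ≤ N) (hM0n : ∀ g ∈ N, ∀ x ∈ M0, g * x * g⁻¹ ∈ M0) (hM0s : ¬ M0 ≤ Cfsg.Geo.scalars (Fin n) F)
    (hperf : ⁅M0, M0⁆ = M0)
    (hdich : ∀ h ∈ H, (∀ x ∈ M0, h * x * h⁻¹ ∈ M0) ∨ ∀ x ∈ M0, ∀ z ∈ M0, h * x * h⁻¹ * z = z * (h * x * h⁻¹))
    {g : GL (Fin n) F} (hg : g ∈ H) (hne : ∀ x ∈ M0, ∀ z ∈ M0, g * x * g⁻¹ * z = z * (g * x * g⁻¹)) : False := by
  classical
  have hM1n : ∀ t ∈ N, ∀ x ∈ M0, ∃ x' ∈ M0, t * (g * x * g⁻¹) * t⁻¹ = g * x' * g⁻¹ := by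
    intro t ht x hx
    exact ⟨(g⁻¹ * t * g) * x * (g⁻¹ * t * g)⁻¹,
      hM0n _ (by simpa using hNn g⁻¹ (H.inv_mem hg) t ht) x hx, by group⟩
  have hncM : ¬ ∀ x ∈ M0, ∀ y ∈ M0, x * y = y * x := fun h => hM0s (comm_of_scalars hperf h)
  by_cases hI : Irr M0
  · haveI := commutant_isDomain hI
    have hfield : IsField (commutantAlg M0) := Finite.isDomain_to_isField _
    refine hncM fun x hx y hy => ?_
    have hmem : ∀ x ∈ M0, ((g * x * g⁻¹ : GL (Fin n) F) : Mat) ∈ commutantAlg M0 := fun x hx =>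
      mem_commutantAlg.2 fun z hz => by rw [← Units.val_mul, hne x hx z hz, Units.val_mul]
    have h1 : ((g * x * g⁻¹ : GL (Fin n) F) : Mat) * (g * y * g⁻¹ : GL (Fin n) F) =
        ((g * y * g⁻¹ : GL (Fin n) F) : Mat) * (g * x * g⁻¹ : GL (Fin n) F) :=
      congrArg Subtype.val (hfield.mul_comm (⟨_, hmem x hx⟩ : commutantAlg M0) ⟨_, hmem y hy⟩)
    have h2 : g * x * g⁻¹ * (g * y * g⁻¹) = g * y * g⁻¹ * (g * x * g⁻¹) := Units.ext h1
    have h3 := congrArg (fun z => g⁻¹ * z * g) h2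
    simpa [mul_assoc] using h3
  rcases clifford hN hM0n hM0s hI with ⟨c, s, D, hD⟩ | ⟨k, d, hkd, hd1, hk1, ⟨T⟩⟩
  · -- every conjugate fixes every component
    let conjM : H → Subgroup (GL (Fin n) F) := fun h => M0.map (MulAut.conj (h : GL (Fin n) F)).toMonoidHom
    set S := ⨆ h : H, conjM h with hS
    have hSN : S ≤ N := iSup_le fun h => by
      rintro _ ⟨x, hx, rfl⟩
      exact hNn h h.2 x (hM0 hx)
    have hSn : ∀ t ∈ H, ∀ x ∈ S, t * x * t⁻¹ ∈ S := by
      intro t ht x hx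
      have h1 : t * x * t⁻¹ ∈ S.map (MulAut.conj t).toMonoidHom := ⟨x, hx, rfl⟩
      rw [hS, Subgroup.map_iSup] at h1
      refine (iSup_le fun h => ?_ : _ ≤ S) h1
      refine le_trans (le_of_eq ?_) (le_iSup conjM (⟨t, ht⟩ * h))
      show Subgroup.map _ (Subgroup.map _ M0) = Subgroup.map _ M0
      rw [Subgroup.map_map]
      congr 1
      refine MonoidHom.ext fun z => ?_
      simp [mul_assoc]
    have hM0S : M0 ≤ S := le_trans (fun x hx => (⟨x, hx, by simp⟩ : x ∈ conjM 1)) (le_iSup conjM 1)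
    have hSe : S = N := hmin S hSN hSn fun h => hM0s (hM0S.trans h)
    have hfix : S ≤ ⨅ i, Cfsg.Geo.subspaceStabilizer (D i) := by
      refine iSup_le fun h => le_iInf fun i => ?_
      rintro _ ⟨x, hx, rfl⟩
      have hall : ∀ y ∈ conjM h, ∀ v ∈ D i, (y : Mat) *ᵥ v ∈ D i := by
        rintro _ ⟨y, hy, rfl⟩ v hv
        rcases hdich h h.2 with h' | h'
        · exact hD.inv i _ (h' y hy) v hv
        · exact hD.comm_fix _ (fun z hz => h' y hy z hz) i v hv
      have hy : (MulAut.conj (h : GL (Fin n) F)).toMonoidHom x ∈ conjM h := ⟨x, hx, rfl⟩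
      generalize (MulAut.conj (h : GL (Fin n) F)).toMonoidHom x = y at hy ⊢
      intro v
      refine ⟨hall y hy v, fun h' => ?_⟩
      have h2 := hall y⁻¹ ((conjM h).inv_mem hy) _ h'
      rwa [show Cfsg.glToMat (Fin n) F y *ᵥ v = (y : Mat) *ᵥ v from rfl, TransvMax.inv_mulVec_mulVec] at h2
    have hc := hD.two_le
    rcases hN (D ⟨0, by omega⟩) (fun x hx v hv => ((iInf_le (fun i => Cfsg.Geo.subspaceStabilizer (D i)) _ ).trans'
        hfix (hSe.symm ▸ hx) v).1 hv) with h | h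
    · have := hD.decomp.finrank_eq ⟨0, by omega⟩
      rw [h, finrank_bot] at this
      exact absurd this (Nat.ne_of_lt hD.decomp.pos)
    · have := hD.decomp.finrank_eq ⟨0, by omega⟩
      rw [h, finrank_top, finrank_fintype_fun_eq_card, Fintype.card_fin, ← hD.mul_eq] at this
      have := hD.decomp.pos
      nlinarith
  -- one component
  have hd12 : d ∣ 8 := ⟨k, by rw [← hn8, ← hkd, mul_comm]⟩
  have hsc : ScalarCommutant T.ρ.range := by
    by_contra hns
    obtain ⟨r, K, hr, hK, hNK, hKM⟩ := field_of_endo T (by omega) (by omega) hd12 hns hM0n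
    have hc := centralises_field hK hNperf hNK
    have hKs : ∀ a ∈ K, ∃ c : F, a = c • (1 : Mat) := fun a ha => hNsc a fun x hx => hc a ha x hx
    have h1 : finrank F K ≤ 1 := by
      refine finrank_le_one (⟨1, K.one_mem⟩ : K) fun a => ?_
      obtain ⟨c, hc⟩ := hKs a a.2
      exact ⟨c, Subtype.ext hc.symm⟩
    rw [hK.finrank_eq] at h1
    omega
  let conjM : H → Subgroup (GL (Fin n) F) := fun h => M0.map (MulAut.conj (h : GL (Fin n) F)).toMonoidHom
  have hpair : ∀ h h' : H, conjM h = conjM h' ∨ ∀ y ∈ conjM h, ∀ z ∈ conjM h', y * z = z * y := by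
    intro h h'
    rcases hdich _ (H.mul_mem (H.inv_mem h'.2) h.2) with e | e
    · left
      refine Subgroup.eq_of_le_of_card_ge ?_ (by
        rw [Subgroup.card_map_of_injective (show Function.Injective (MulAut.conj (h : GL (Fin n) F)).toMonoidHom from
            (MulAut.conj (h : GL (Fin n) F)).injective),
          Subgroup.card_map_of_injective (show Function.Injective (MulAut.conj (h' : GL (Fin n) F)).toMonoidHom from
            (MulAut.conj (h' : GL (Fin n) F)).injective)])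
      rintro _ ⟨x, hx, rfl⟩
      refine ⟨_, e x hx, ?_⟩
      simp [mul_assoc]
    · right
      rintro _ ⟨x, hx, rfl⟩ _ ⟨z, hz, rfl⟩
      have h1 := congrArg (fun w => (h' : GL (Fin n) F) * w * (h' : GL (Fin n) F)⁻¹) (e x hx z hz)
      simpa [mul_assoc] using h1
  have hSe : (⨆ h, conjM h) = N := by
    refine hmin _ (iSup_le fun h => ?_) (fun t ht x hx => ?_) fun h => hM0s (le_trans (le_trans
      (fun x hx => (⟨x, hx, by simp⟩ : x ∈ conjM 1)) (le_iSup conjM 1)) h)
    · rintro _ ⟨x, hx, rfl⟩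
      exact hNn h h.2 x (hM0 hx)
    · have h1 : t * x * t⁻¹ ∈ (⨆ h, conjM h).map (MulAut.conj t).toMonoidHom := ⟨x, hx, rfl⟩
      rw [Subgroup.map_iSup] at h1
      refine (iSup_le fun h => ?_ : _ ≤ ⨆ h, conjM h) h1
      refine le_trans (le_of_eq ?_) (le_iSup conjM (⟨t, ht⟩ * h))
      show Subgroup.map _ (Subgroup.map _ M0) = Subgroup.map _ M0
      rw [Subgroup.map_map]
      congr 1
      refine MonoidHom.ext fun z => ?_
      simp [mul_assoc]
  have hdata : ∀ h : H, Constituent (conjM h) d := by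
    intro h
    let e : M0 ≃* conjM h := M0.equivMapOfInjective _ (MulAut.conj (h : GL (Fin n) F)).injective
    let j0 : Fin k := ⟨0, by omega⟩
    refine ⟨T.ρ.comp e.symm.toMonoidHom, ?_, ?_, (Matrix.toLin' ((h : GL (Fin n) F) : Mat)).comp
      { toFun := fun w => ∑ l, w l • T.β (j0, l)
        map_add' := fun w w' => by simp [add_smul, Finset.sum_add_distrib]
        map_smul' := fun r w => by
          rw [RingHom.id_apply, Finset.smul_sum]
          exact Finset.sum_congr rfl fun l _ => by rw [Pi.smul_apply, smul_eq_mul, mul_smul] }, ?_, fun y w => ?_⟩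
    · rw [MonoidHom.range_comp, MonoidHom.range_eq_top.2 (show Function.Surjective e.symm.toMonoidHom from e.symm.surjective),
        ← MonoidHom.range_eq_map]
      exact T.irr
    · rw [MonoidHom.range_comp, MonoidHom.range_eq_top.2 (show Function.Surjective e.symm.toMonoidHom from e.symm.surjective),
        ← MonoidHom.range_eq_map]
      exact hsc
    · refine (show Function.Injective (Matrix.toLin' ((h : GL (Fin n) F) : Mat)) from fun u v e => ?_).comp fun w w' e => ?_
      · simpa [TransvMax.inv_mulVec_mulVec] using congrArg ((((h : GL (Fin n) F)⁻¹ : GL (Fin n) F) : Mat) *ᵥ ·) e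
      · funext l
        simpa [Finsupp.single_apply] using congrArg (fun v => T.β.repr v (j0, l)) e
    · obtain ⟨x, rfl⟩ := e.surjective y
      simp only [MonoidHom.comp_apply, MulEquiv.coe_toMonoidHom, MulEquiv.symm_apply_apply, LinearMap.comp_apply,
        Matrix.toLin'_apply, LinearMap.coe_mk, AddHom.coe_mk]
      show (((h : GL (Fin n) F) * x * (h : GL (Fin n) F)⁻¹ : GL (Fin n) F) : Mat) *ᵥ _ = _
      rw [Units.val_mul, Units.val_mul, ← Matrix.mulVec_mulVec, ← Matrix.mulVec_mulVec,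
        TransvMax.inv_mulVec_mulVec]
      congr 1
      simp only [Matrix.mulVec_sum, Matrix.mulVec_smul, T.act, Finset.smul_sum, smul_smul]
      rw [Finset.sum_comm]
      refine Finset.sum_congr rfl fun i _ => ?_
      rw [← Finset.sum_smul]
      congr 1
      exact Finset.sum_congr rfl fun l _ => mul_comm _ _
  have hI : Irr (⨆ h, conjM h) := by rw [hSe]; exact hN
  have hlt : d < 8 := by
    have h2 : 2 * d ≤ k * d := Nat.mul_le_mul_right d hk1
    omega
  have hp : ∀ h : H, ⁅conjM h, conjM h⁆ = conjM h := fun h => by rw [← Subgroup.map_commutator, hperf]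
  have hnc : ∀ h : H, ¬ ∀ x ∈ conjM h, ∀ y ∈ conjM h, x * y = y * x := fun h hc => ?_
  by_cases hd2 : d = 2
  · obtain ⟨f, hb, hfix, u, v, huv⟩ := family_form n conjM d hd1 hp hnc hpair hI hdata hd2
    exact huv (hform f hb (fun x hx => hfix x (hSe.symm ▸ hx)) u v)
  refine (Twelve.family_pow n conjM d hd1 hp hnc hpair hI hdata).elim fun j hj => ?_
  · have hd4 : d = 4 := by interval_cases d <;> omega
    rw [hn8, hd4] at hj
    rcases j with - | - | j
    · norm_num at hj
    · norm_num at hj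
    · have : 4 ^ 2 ≤ 4 ^ (j + 2) := Nat.pow_le_pow_right (by norm_num) (by omega)
      omega
  · refine hncM fun x hx y hy => ?_
    have h1 := hc _ ⟨x, hx, rfl⟩ _ ⟨y, hy, rfl⟩
    simpa [mul_assoc] using congrArg (fun z => (h : GL (Fin n) F)⁻¹ * z * (h : GL (Fin n) F)) h1

/-- Simplicity modulo scalars. -/
theorem simple_mod_scalars [Fintype F] [NeZero n] (hn8 : n = 8)
    {H P : Subgroup (GL (Fin n) F)} (hPH : P ≤ H) (hperf : ⁅P, P⁆ = P) (hPn : ∀ g ∈ H, ∀ x ∈ P, g * x * g⁻¹ ∈ P)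
    (hPns : ¬ P ≤ Cfsg.Geo.scalars (Fin n) F)
    (hmin : ∀ R : Subgroup (GL (Fin n) F), R ≤ P → (∀ g ∈ H, ∀ x ∈ R, g * x * g⁻¹ ∈ R) →
      ¬ R ≤ Cfsg.Geo.scalars (Fin n) F → R = P)
    (hirr : Irr P) (hsc : ScalarCommutant P) (hform : NoForm P) :
    IsSimpleGroup (P ⧸ (Cfsg.Geo.scalars (Fin n) F).subgroupOf P) ∧
      ¬ IsMulCommutative (P ⧸ (Cfsg.Geo.scalars (Fin n) F).subgroupOf P) ∧
      ∀ h ∈ H, (∀ x ∈ P, h * x * h⁻¹ * x⁻¹ ∈ Cfsg.Geo.scalars (Fin n) F) → h ∈ Cfsg.Geo.scalars (Fin n) F := by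
  classical
  have hcentral : ∀ h, (∀ x ∈ P, h * x * h⁻¹ * x⁻¹ ∈ Cfsg.Geo.scalars (Fin n) F) → h ∈ Cfsg.Geo.scalars (Fin n) F :=
    fun h hx => mem_scalars_of_commutant (Nat.pos_of_ne_zero (NeZero.ne n)) hsc (commute_perfect hperf hx)
  -- the only non-scalar subgroup normalised by `P` is `P`
  have hsimple : ∀ M : Subgroup (GL (Fin n) F), M ≤ P → (∀ g ∈ P, ∀ x ∈ M, g * x * g⁻¹ ∈ M) →
      ¬ M ≤ Cfsg.Geo.scalars (Fin n) F → M = P := by
    intro M hM hMn hMs
    haveI : Finite (GL (Fin n) F) := inferInstance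
    let Good : ℕ → Prop := fun m => ∃ M0 : Subgroup (GL (Fin n) F), Nat.card M0 = m ∧ M0 ≤ M ∧
      (∀ g ∈ P, ∀ x ∈ M0, g * x * g⁻¹ ∈ M0) ∧ ¬ M0 ≤ Cfsg.Geo.scalars (Fin n) F
    have hex : ∃ m, Good m := ⟨_, M, rfl, le_rfl, hMn, hMs⟩
    obtain ⟨M0, hcard0, hM0M, hM0n, hM0s⟩ := Nat.find_spec hex
    have hmin0 : ∀ R : Subgroup (GL (Fin n) F), R ≤ M0 → (∀ g ∈ P, ∀ x ∈ R, g * x * g⁻¹ ∈ R) →
        ¬ R ≤ Cfsg.Geo.scalars (Fin n) F → R = M0 := fun R hR hRn hRs =>
      Subgroup.eq_of_le_of_card_ge hR (by rw [hcard0]; exact Nat.find_min' hex ⟨R, rfl, hR.trans hM0M, hRn, hRs⟩)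
    have hM0P : M0 ≤ P := hM0M.trans hM
    have hDn : ∀ g ∈ P, ∀ x ∈ ⁅M0, M0⁆, g * x * g⁻¹ ∈ ⁅M0, M0⁆ := by
      intro g hg x hx
      have h1 : g * x * g⁻¹ ∈ ⁅M0, M0⁆.map (MulAut.conj g).toMonoidHom := ⟨x, hx, rfl⟩
      rw [Subgroup.map_commutator] at h1
      have hle : M0.map (MulAut.conj g).toMonoidHom ≤ M0 := by
        rintro _ ⟨t, ht, rfl⟩
        exact hM0n g hg t ht
      exact Subgroup.commutator_mono hle hle h1
    have hperf0 : ⁅M0, M0⁆ = M0 := by
      refine hmin0 _ (Subgroup.commutator_le.2 fun a ha b hb => ?_) hDn fun hD => ?_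
      · exact M0.mul_mem (M0.mul_mem (M0.mul_mem ha hb) (M0.inv_mem ha)) (M0.inv_mem hb)
      · refine minimal_normal_solvable_false hPH hperf hPn hPns hmin hM0P hM0n hM0s ?_
        haveI : Group.IsSolvable ↥((⁅M0, M0⁆).subgroupOf M0) := by
          refine Group.isSolvable_of_comm fun a b => Subtype.ext (Subtype.ext ?_)
          exact scalar_comm (hD (Subgroup.mem_subgroupOf.1 a.2)) _
        refine solvable_of_ker_le_range ((⁅M0, M0⁆).subgroupOf M0).subtype (Abelianization.of (G := M0)) ?_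
        intro t ht
        rw [Abelianization.ker_of] at ht
        refine ⟨⟨t, ?_⟩, rfl⟩
        rw [Subgroup.mem_subgroupOf, ← Subgroup.map_subtype_commutator]
        exact ⟨t, ht, rfl⟩
    have hdich : ∀ g ∈ H, (∀ x ∈ M0, g * x * g⁻¹ ∈ M0) ∨
        ∀ x ∈ M0, ∀ z ∈ M0, g * x * g⁻¹ * z = z * (g * x * g⁻¹) := by
      intro g hg
      set M1 := M0.map (MulAut.conj g).toMonoidHom with hM1
      have hM1n : ∀ t ∈ P, ∀ y ∈ M1, t * y * t⁻¹ ∈ M1 := by
        rintro t ht _ ⟨y, hy, rfl⟩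
        refine ⟨(g⁻¹ * t * g) * y * (g⁻¹ * t * g)⁻¹, hM0n _ (by simpa using hPn g⁻¹ (H.inv_mem hg) t ht) y hy, ?_⟩
        simp only [MulEquiv.coe_toMonoidHom, MulAut.conj_apply]
        group
      have hInf : ∀ t ∈ P, ∀ y ∈ M0 ⊓ M1, t * y * t⁻¹ ∈ M0 ⊓ M1 := fun t ht y hy =>
        ⟨hM0n t ht y hy.1, hM1n t ht y hy.2⟩
      by_cases hsi : M0 ⊓ M1 ≤ Cfsg.Geo.scalars (Fin n) F
      · right
        intro y hy z hz
        refine commute_perfect hperf0 (fun z hz => ?_) z hz
        have hyM : g * y * g⁻¹ ∈ M1 := ⟨y, hy, rfl⟩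
        have hzP : z ∈ P := hM0P hz
        have hyP : g * y * g⁻¹ ∈ P := hPn g hg y (hM0P hy)
        refine hsi ⟨M0.mul_mem (hM0n _ hyP z hz) (M0.inv_mem hz), ?_⟩
        have := M1.mul_mem hyM (hM1n z hzP _ (M1.inv_mem hyM))
        simpa [mul_assoc] using this
      · left
        have heq := hmin0 _ inf_le_left hInf hsi
        have hle : M0 ≤ M1 := inf_eq_left.1 heq
        have h10 : M1 = M0 := (Subgroup.eq_of_le_of_card_ge hle (by
          rw [hM1, Subgroup.card_map_of_injective (MulAut.conj g).injective])).symm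
        intro x hx
        rw [← h10]
        exact ⟨x, hx, rfl⟩
    have hH0 : ∀ g ∈ H, ∀ x ∈ M0, g * x * g⁻¹ ∈ M0 := fun g hg => (hdich g hg).resolve_right fun h =>
      no_commuting_conjugate hn8 hPn hirr hsc hperf hform hmin hM0P hM0n hM0s hperf0 hdich hg h
    exact le_antisymm hM ((hmin M0 hM0P hH0 hM0s).ge.trans hM0M)
  set Z := (Cfsg.Geo.scalars (Fin n) F).subgroupOf P
  have hncQ : ¬ IsMulCommutative (P ⧸ Z) := by
    intro hc
    refine hPns ?_
    rw [← hperf, Subgroup.commutator_le]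
    intro a ha b hb
    have h1 := hc.is_comm.comm (QuotientGroup.mk ⟨a, ha⟩ : P ⧸ Z) (QuotientGroup.mk ⟨b, hb⟩)
    rw [← QuotientGroup.mk_mul, ← QuotientGroup.mk_mul, QuotientGroup.eq] at h1
    have h2 := Subgroup.mem_subgroupOf.1 h1
    have h3 : ((⟨a, ha⟩ * ⟨b, hb⟩ : P)⁻¹ * (⟨b, hb⟩ * ⟨a, ha⟩) : P).1 = (a * b)⁻¹ * (b * a) := rfl
    rw [h3] at h2
    have h4 := Subgroup.Normal.conj_mem (Cfsg.Geo.scalars_normal) _ ((Cfsg.Geo.scalars (Fin n) F).inv_mem h2) (a * b)
    rw [commutatorElement_def]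
    have h5 : a * b * ((a * b)⁻¹ * (b * a))⁻¹ * (a * b)⁻¹ = a * b * a⁻¹ * b⁻¹ := by group
    rw [h5] at h4
    exact h4
  refine ⟨?_, hncQ, fun h _ hx => hcentral h hx⟩
  haveI : Nontrivial (P ⧸ Z) := by
    rw [← not_subsingleton_iff_nontrivial]
    intro hsub
    exact hncQ ⟨⟨fun a b => Subsingleton.elim _ _⟩⟩
  refine { eq_bot_or_eq_top_of_normal := fun K hK => ?_ }
  set M := (K.comap (QuotientGroup.mk' Z)).map P.subtype with hMdef
  have hMn : ∀ g ∈ P, ∀ x ∈ M, g * x * g⁻¹ ∈ M := by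
    rintro g hg _ ⟨x, hx, rfl⟩
    have hKc : (K.comap (QuotientGroup.mk' Z)).Normal := hK.comap (QuotientGroup.mk' Z)
    let g' : P := ⟨g, hg⟩
    refine Subgroup.mem_map.2 ⟨g' * x * g'⁻¹, hKc.conj_mem x hx g', ?_⟩
    rw [map_mul, map_mul, map_inv]
    rfl
  by_cases hMs : M ≤ Cfsg.Geo.scalars (Fin n) F
  · left
    refine eq_bot_iff.2 fun t ht => ?_
    obtain ⟨x, rfl⟩ := QuotientGroup.mk'_surjective Z t
    exact (QuotientGroup.eq_one_iff x).2 (Subgroup.mem_subgroupOf.2 (hMs ⟨x, ht, rfl⟩))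
  · right
    have := hsimple M (Subgroup.map_subtype_le _) hMn hMs
    refine eq_top_iff.2 fun t _ => ?_
    obtain ⟨x, rfl⟩ := QuotientGroup.mk'_surjective Z t
    have hx : (x : GL (Fin n) F) ∈ M := by rw [this]; exact x.2
    obtain ⟨y, hy, e⟩ := hx
    exact (Subtype.ext e : y = x) ▸ hy

end Cfsg.Agent.Eight
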