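import Cfsg.Agent.Lib.Eight.ClassTwo
import Cfsg.Agent.Lib.TwoPrime.Main

/-!
Maximal subgroups of the special linear group in degree eight: geometric or residual.
-/

set_option autoImplicit false

namespace Cfsg.Agent.Eight

open scoped Matrix MatrixGroups commutatorElement
open Module PrimeDim TwoPrime

variable {n : ℕ} {F : Type*} [Field F] [Fintype F]

local notation "V" => Fin n → F

local notation "Mat" => Matrix (Fin n) (Fin n) F

/-- The list in degree eight. -/
def EightCases (H : Subgroup (GL (Fin n) F)) : Prop :=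
  (∃ W : Submodule F V, W ≠ ⊥ ∧ W ≠ ⊤ ∧ H = Cfsg.Geo.subspaceStabilizer W ⊓ Cfsg.Geo.specialLinear (Fin n) F) ∨
  (5 ≤ Fintype.card F ∧ ∃ D : Fin n → Submodule F V, Cfsg.Geo.IsMDecomposition 1 D ∧
    H = Cfsg.Geo.decompositionStabilizer D ⊓ Cfsg.Geo.specialLinear (Fin n) F) ∨
  (3 ≤ Fintype.card F ∧ ∃ D : Fin 4 → Submodule F V, Cfsg.Geo.IsMDecomposition 2 D ∧
    H = Cfsg.Geo.decompositionStabilizer D ⊓ Cfsg.Geo.specialLinear (Fin n) F) ∨
  (∃ D : Fin 2 → Submodule F V, Cfsg.Geo.IsMDecomposition 4 D ∧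
    H = Cfsg.Geo.decompositionStabilizer D ⊓ Cfsg.Geo.specialLinear (Fin n) F) ∨
  (∃ K : Subalgebra F Mat, Cfsg.Geo.IsFieldSubalgebra 2 K ∧
    H = Cfsg.Geo.subalgebraNormalizer K ⊓ Cfsg.Geo.specialLinear (Fin n) F) ∨
  (3 ≤ Fintype.card F ∧ ∃ (e : Fin n ≃ Fin 2 × Fin 4) (P : GL (Fin n) F),
    H = Cfsg.Geo.tensorProductSubgroup 2 4 e P ⊓ Cfsg.Geo.specialLinear (Fin n) F) ∨
  (∃ (F₀ : Subfield F) (r : ℕ) (P : GL (Fin n) F), r.Prime ∧ Fintype.card F = Nat.card F₀ ^ r ∧
    H = Cfsg.Geo.subfieldSubgroup F₀ P ⊓ Cfsg.Geo.specialLinear (Fin n) F) ∨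
  ((∃ p : ℕ, p.Prime ∧ Fintype.card F = p ∧ (p % 4 = 1)) ∧ ∃ R : Subgroup (GL (Fin n) F),
    Cfsg.Geo.IsLinearSymplecticTypeData 2 R ∧
    H = Cfsg.Geo.subgroupNormalizer R ⊓ Cfsg.Geo.specialLinear (Fin n) F) ∨
  (Odd (Fintype.card F) ∧ ∃ Q : V → F, Cfsg.Geo.IsNondegenerateQuadraticForm Q ∧
    H = Cfsg.Geo.quadSimilarityGroup Q ⊓ Cfsg.Geo.specialLinear (Fin n) F) ∨
  (∃ f : V → V → F, Cfsg.Geo.IsSymplecticForm f ∧
    H = Cfsg.Geo.similarityGroup f ⊓ Cfsg.Geo.specialLinear (Fin n) F) ∨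
  (∃ (σ : F ≃+* F) (f : V → V → F), Cfsg.Geo.IsUnitaryForm σ f ∧
    H = Cfsg.Geo.similarityGroup f ⊓ Cfsg.Geo.specialLinear (Fin n) F) ∨
  Cfsg.Geo.InLinearResidualClass H

variable {H : Subgroup (GL (Fin n) F)}

section

variable (hn8 : n = 8) (hH : Cfsg.Geo.IsMaximalIn (Cfsg.Geo.specialLinear (Fin n) F) H)
include hn8 hH

theorem quad_or_symp {Q : V → F} (hQ : Cfsg.Geo.IsNondegenerateQuadraticForm Q)
    (hle : (2 : F) ≠ 0 → H ≤ Cfsg.Geo.quadSimilarityGroup Q)
    (hle' : H ≤ Cfsg.Geo.similarityGroup (QuadraticMap.polar Q)) : EightCases H := by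
  by_cases h2 : (2 : F) = 0
  · have hf : Cfsg.Geo.IsSymplecticForm (QuadraticMap.polar Q) := by
      refine ⟨hQ.polar_bilinear, fun v w => ?_, fun v => ?_, hQ.nondegenerate⟩
      · have h := congrArg (· * QuadraticMap.polar Q w v) h2
        simp only [zero_mul] at h
        rw [QuadraticMap.polar_comm Q v w]
        linear_combination h
      · rw [polar_self hQ, h2, zero_mul]
    exact (.inr (.inr (.inr (.inr (.inr (.inr (.inr (.inr (.inr (.inl (⟨_, hf, eq_inf_of_le hH hle'
      (sl_not_le_similarity (by omega) (IsSesq.of_bilinear hf.bilinear) hf.nondegenerate)⟩)))))))))))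
  · exact (.inr (.inr (.inr (.inr (.inr (.inr (.inr (.inr (.inl (⟨odd_card_of_two_ne_zero h2, Q, hQ,
      eq_inf_of_le hH (hle h2) (sl_not_le_quad (by omega) hQ)⟩))))))))))

/-- A group fixing a non-zero bilinear form. -/
theorem form_case {N : Subgroup (GL (Fin n) F)} (hn : ∀ g ∈ H, ∀ x ∈ N, g * x * g⁻¹ ∈ N) (hirr : Irr N)
    (hsc : ScalarCommutant N) {f : V → V → F} (hf : Cfsg.Geo.IsBilinearForm f)
    (hfix : ∀ x ∈ N, ∀ u v, f ((x : Mat) *ᵥ u) ((x : Mat) *ᵥ v) = f u v) (hne : ∃ u v, f u v ≠ 0) : EightCases H := by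
  classical
  haveI : NeZero n := ⟨by omega⟩
  obtain ⟨u₀, v₀, huv⟩ := hne
  have hz0 : ∀ v, f 0 v = 0 := fun v => by simpa using hf.smul_left 0 0 v
  have hz1 : ∀ v, f v 0 = 0 := fun v => by simpa using hf.smul_right 0 v 0
  let WL : Submodule F V :=
    { carrier := {u | ∀ w, f u w = 0}
      add_mem' := fun {a c} ha hc w => by rw [hf.add_left, ha, hc, add_zero]
      zero_mem' := hz0
      smul_mem' := fun a {c} hc w => by rw [hf.smul_left, hc, mul_zero] }
  let WR : Submodule F V :=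
    { carrier := {u | ∀ w, f w u = 0}
      add_mem' := fun {a c} ha hc w => by rw [hf.add_right, ha, hc, add_zero]
      zero_mem' := hz1
      smul_mem' := fun a {c} hc w => by rw [hf.smul_right, hc, mul_zero] }
  have hWL : WL = ⊥ := by
    refine (hirr WL fun x hx u hu w => ?_).resolve_right fun e => huv ((e.symm ▸ Submodule.mem_top : u₀ ∈ WL) v₀)
    rw [← TransvMax.mulVec_inv_mulVec x w, hfix x hx]
    exact hu _
  have hWR : WR = ⊥ := by
    refine (hirr WR fun x hx u hu w => ?_).resolve_right fun e => huv ((e.symm ▸ Submodule.mem_top : v₀ ∈ WR) u₀)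
    rw [← TransvMax.mulVec_inv_mulVec x w, hfix x hx]
    exact hu _
  have hnd : Cfsg.Geo.IsNondegenerateForm f := by
    intro v hv
    refine ⟨?_, ?_⟩
    · by_contra hc
      push Not at hc
      exact hv ((Submodule.mem_bot F).1 (hWR ▸ (hc : v ∈ WR)))
    · by_contra hc
      push Not at hc
      exact hv ((Submodule.mem_bot F).1 (hWL ▸ (hc : v ∈ WL)))
  have hff : Cfsg.Geo.FixesForm (Cfsg.Geo.matrixSet N) f := by
    rintro _ ⟨x, hx, rfl⟩ u v
    exact hfix x hx u v
  have hflip : Cfsg.Geo.IsBilinearForm fun u v => f v u :=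
    ⟨fun x y v => hf.add_right v x y, fun c x v => hf.smul_right c v x, fun v x y => hf.add_left x y v,
      fun c v x => hf.smul_left c x v⟩
  obtain ⟨c, hc⟩ := form_unique hsc (IsSesq.of_bilinear hf) hnd (IsSesq.of_bilinear hflip) hff (by
    rintro _ ⟨x, hx, rfl⟩ u v
    exact hfix x hx v u)
  have hcc : c * c = 1 := by
    have h1 := hc u₀ v₀
    have h2 := hc v₀ u₀
    rw [h1, ← mul_assoc] at h2
    exact (mul_eq_right₀ huv).1 h2.symm
  have hle : H ≤ Cfsg.Geo.similarityGroup f := fun g hg =>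
    mem_similarity hsc (IsSesq.of_bilinear hf) hnd hff (hn g hg)
  have hsymp : (∀ v, f v v = 0) → EightCases H := fun halt => by
    have hs : Cfsg.Geo.IsSymplecticForm f := by
      refine ⟨hf, fun v w => ?_, halt, hnd⟩
      have h := halt (v + w)
      rw [hf.add_left, hf.add_right, hf.add_right, halt, halt] at h
      linear_combination h
    exact (.inr (.inr (.inr (.inr (.inr (.inr (.inr (.inr (.inr (.inl (⟨f, hs, eq_inf_of_le hH hle (sl_not_le_similarity (by omega) (IsSesq.of_bilinear hf) hnd)⟩)))))))))))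
  obtain rfl | ⟨rfl, h2'⟩ : c = 1 ∨ (c = -1 ∧ (2 : F) ≠ 0) := by
    rcases mul_self_eq_one_iff.1 hcc with e | e
    · exact .inl e
    · by_cases h2 : (2 : F) = 0
      · exact .inl (by linear_combination e - h2)
      · exact .inr ⟨e, h2⟩
  · have hsym : ∀ u v, f v u = f u v := fun u v => by simpa using hc u v
    by_cases h2 : (2 : F) = 0
    · let W : Submodule F V :=
        { carrier := {v | f v v = 0}
          add_mem' := fun {a c} ha hc' => by
            show f (a + c) (a + c) = 0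
            rw [hf.add_left, hf.add_right, hf.add_right, ha, hc', hsym a c]
            linear_combination (f a c) * h2
          zero_mem' := hz0 0
          smul_mem' := fun a {c} hc' => by
            show f (a • c) (a • c) = 0
            rw [hf.smul_left, hf.smul_right, hc', mul_zero, mul_zero] }
      rcases hirr W (fun x hx v hv => (hfix x hx v v).trans hv) with h | h
      · exfalso
        have hinj : Function.Injective fun v : V => f v v := by
          intro a c hac
          simp only at hac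
          refine sub_eq_zero.1 ((Submodule.mem_bot F).1 (h ▸ (show a - c ∈ W from ?_)))
          show f (a - c) (a - c) = 0
          rw [sub_eq_add_neg, ← neg_one_smul F c, hf.add_left, hf.add_right, hf.add_right, hf.smul_left, hf.smul_left,
            hf.smul_right, hf.smul_right, hsym a c]
          linear_combination hac + (f c c - f a c) * h2
        have h1 := Fintype.card_le_of_injective _ hinj
        rw [Fintype.card_fun, Fintype.card_fin, hn8] at h1
        have : Fintype.card F ^ 1 < Fintype.card F ^ 8 := Nat.pow_lt_pow_right Fintype.one_lt_card (by norm_num)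
        rw [pow_one] at this
        omega
      · exact hsymp fun v => (h.symm ▸ Submodule.mem_top : v ∈ W)
    · let Q : V → F := fun v => f v v * (2 : F)⁻¹
      have hpol : QuadraticMap.polar Q = f := by
        funext u v
        simp only [QuadraticMap.polar, Q]
        rw [hf.add_left, hf.add_right, hf.add_right, hsym u v]
        field_simp
        ring
      have hQ : Cfsg.Geo.IsNondegenerateQuadraticForm Q :=
        ⟨fun a v => by simp only [Q, hf.smul_left, hf.smul_right]; ring, hpol ▸ hf, hpol ▸ hnd⟩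
      refine quad_or_symp hn8 hH hQ (fun h2' g hg => mem_quadSimilarity h2' hsc hQ ?_ (hn g hg)) (hpol ▸ hle)
      rintro _ ⟨x, hx, rfl⟩ v
      simp only [Q, hfix x hx]
  · refine hsymp fun v => ?_
    have h := hc v v
    exact (mul_eq_zero.1 (show (2 : F) * f v v = 0 by linear_combination h)).resolve_left h2'

/-- The normaliser of a group of symplectic type is proper. -/
theorem not_le_normalizer {N : Subgroup (GL (Fin n) F)} (h2F : (2 : F) ≠ 0) (hexp : ∀ g ∈ N, g ^ 4 = 1) {x : GL (Fin n) F}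
    (hx : x ∈ N) (hxs : x ∉ Cfsg.Geo.scalars (Fin n) F) :
    ¬ Cfsg.Geo.specialLinear (Fin n) F ≤ Cfsg.Geo.subgroupNormalizer N := by
  classical
  intro hle
  -- every commutator with a transvection lies in `N`, so has exponent four
  have key : ∀ (v φ : V) (hv : φ ⬝ᵥ v = 0),
      (TransvMax.trv v φ hv * (x * (TransvMax.trv v φ hv)⁻¹ * x⁻¹)) ^ 4 = 1 := by
    intro v φ hv
    refine hexp _ ?_
    have h1 : TransvMax.trv v φ hv * x * (TransvMax.trv v φ hv)⁻¹ ∈ N :=
      ((Subgroup.mem_normalizer_iff.1 (hle (TransvMax.trv_mem_specialLinear v φ hv))) x).1 hx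
    simpa [mul_assoc] using N.mul_mem h1 (N.inv_mem hx)
  -- so `x` fixes every line
  have heig : ∀ v : V, ∃ c : F, (x : Mat) *ᵥ v = c • v := by
    intro v
    by_contra hne
    push Not at hne
    have hv0 : v ≠ 0 := fun e => hne 0 (by simp [e])
    set w : V := (x : Mat) *ᵥ v
    -- a functional killing both `v` and its image
    let L : V →ₗ[F] F × F :=
      LinearMap.prod { toFun := fun a => a ⬝ᵥ v, map_add' := fun a b => add_dotProduct a b v, map_smul' := fun a b => by simp }
        { toFun := fun a => a ⬝ᵥ w, map_add' := fun a b => add_dotProduct a b w, map_smul' := fun a b => by simp }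
    have hk : LinearMap.ker L ≠ ⊥ := by
      intro e
      have h1 := LinearMap.finrank_le_finrank_of_injective (LinearMap.ker_eq_bot.1 e)
      simp [finrank_fintype_fun_eq_card] at h1
      omega
    obtain ⟨φ, hφ, hφ0⟩ := Submodule.exists_mem_ne_zero_of_ne_bot hk
    have hφv : φ ⬝ᵥ v = 0 := congrArg Prod.fst hφ
    have hφw : φ ⬝ᵥ w = 0 := congrArg Prod.snd hφ
    set ψ : V := φ ᵥ* ((x⁻¹ : GL (Fin n) F) : Mat)
    have hψw : (-ψ) ⬝ᵥ w = 0 := by rw [neg_dotProduct, TransvMax.vecMul_inv_dot, hφv, neg_zero]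
    set T : GL (Fin n) F := TransvMax.trv v φ hφv * (x * (TransvMax.trv v φ hφv)⁻¹ * x⁻¹)
    set A : Mat := Matrix.vecMulVec v φ
    set B : Mat := Matrix.vecMulVec w ψ
    have hinv : (x * (TransvMax.trv v φ hφv)⁻¹ * x⁻¹ : GL (Fin n) F).val = 1 - B := by
      refine Matrix.ext_iff_mulVec.2 fun u => ?_
      rw [Units.val_mul, Units.val_mul, ← Matrix.mulVec_mulVec, ← Matrix.mulVec_mulVec]
      show (x : Mat) *ᵥ ((1 - A) *ᵥ _) = (1 - B) *ᵥ u
      rw [Matrix.sub_mulVec, Matrix.one_mulVec, Matrix.sub_mulVec, Matrix.one_mulVec, Matrix.mulVec_sub,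
        TransvMax.mulVec_inv_mulVec, Matrix.vecMulVec_mulVec, Matrix.vecMulVec_mulVec, op_smul_eq_smul, op_smul_eq_smul,
        Matrix.mulVec_smul, ← Matrix.dotProduct_mulVec]
    have hT : (T : Mat) = (1 + A) * (1 - B) := by rw [Units.val_mul, hinv]; rfl
    -- on the kernel of `ψ` it is the transvection itself
    have hTu : ∀ u, (T : Mat) *ᵥ u = u + (φ ⬝ᵥ u) • v - (ψ ⬝ᵥ u) • w := by
      intro u
      rw [hT, ← Matrix.mulVec_mulVec, Matrix.sub_mulVec, Matrix.one_mulVec, Matrix.vecMulVec_mulVec, op_smul_eq_smul,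
        Matrix.add_mulVec, Matrix.one_mulVec, Matrix.vecMulVec_mulVec, op_smul_eq_smul, dotProduct_sub, dotProduct_smul,
        hφw, smul_zero, sub_zero]
      abel
    have hTn : ∀ (m : ℕ) (u : V), ((T ^ m : GL (Fin n) F) : Mat) *ᵥ u =
        u + (m : F) • ((φ ⬝ᵥ u) • v - (ψ ⬝ᵥ u) • w) +
          ((m.choose 2 : F) * (φ ⬝ᵥ u) * (-(ψ ⬝ᵥ v))) • w := by
      intro m
      induction m with
      | zero => intro u; simp
      | succ m ih =>
        intro u
        have hψw' : ψ ⬝ᵥ w = 0 := by rw [TransvMax.vecMul_inv_dot]; exact hφv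
        rw [pow_succ', Units.val_mul, ← Matrix.mulVec_mulVec, ih, hTu]
        simp only [dotProduct_add, dotProduct_sub, dotProduct_smul, smul_eq_mul, hφv, hφw, hψw', mul_zero, sub_zero,
          add_zero, zero_sub]
        rw [Nat.choose_succ_succ' m 1, Nat.choose_one_right, Nat.cast_add, Nat.cast_add, Nat.cast_one]
        ext k
        simp only [Pi.add_apply, Pi.sub_apply, Pi.smul_apply, smul_eq_mul]
        ring
    obtain ⟨u, hu⟩ : ∃ u, φ ⬝ᵥ u = 1 := by
      obtain ⟨i, hi⟩ : ∃ i, φ i ≠ 0 := Function.ne_iff.1 hφ0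
      exact ⟨Pi.single i (φ i)⁻¹, by rw [dotProduct_single, mul_inv_cancel₀ hi]⟩
    have h1 := hTn 4 u
    rw [key v φ hφv, Units.val_one, Matrix.one_mulVec] at h1
    have hch : ((Nat.choose 4 2 : ℕ) : F) * 1 * (-(ψ ⬝ᵥ v)) = ((Nat.choose 4 2 : ℕ) : F) * (-(ψ ⬝ᵥ v)) := by ring
    rw [hu, hch, one_smul] at h1
    -- coefficient of `v`
    have h2 : ((4 : ℕ) : F) • v = (((4 : ℕ) : F) * (ψ ⬝ᵥ u) - (Nat.choose 4 2 : F) * (-(ψ ⬝ᵥ v))) • w := by
      funext k
      have := congrFun h1 k
      simp only [Pi.add_apply, Pi.sub_apply, Pi.smul_apply, smul_eq_mul] at this ⊢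
      linear_combination -this
    set c := ((4 : ℕ) : F) * (ψ ⬝ᵥ u) - (Nat.choose 4 2 : F) * (-(ψ ⬝ᵥ v))
    by_cases hc : c = 0
    · rw [hc, zero_smul, smul_eq_zero] at h2
      exact h2.elim (by push_cast; rw [show (4 : F) = 2 * 2 by norm_num]; exact mul_ne_zero h2F h2F) hv0
    · refine hne (c⁻¹ * ((4 : ℕ) : F)) ?_
      rw [mul_smul, h2, smul_smul, inv_mul_cancel₀ hc, one_smul]
  obtain ⟨c, hc⟩ := (LinearMap.exists_eq_smul_id_of_forall_notLinearIndependent (f := Matrix.toLin' (x : Mat)) fun v => by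
    rw [LinearIndependent.pair_iff]
    intro h
    obtain ⟨c, hc⟩ := heig v
    have := (h c (-1) (by rw [Matrix.toLin'_apply, hc, neg_smul, one_smul, add_neg_cancel])).2
    simp at this)
  refine hxs (mem_scalars_of_val (by omega) (c := c) ?_)
  have := congrArg LinearMap.toMatrix' hc
  rwa [LinearMap.toMatrix'_toLin', map_smul, LinearMap.toMatrix'_one] at this

theorem components_case {N : Subgroup (GL (Fin n) F)} (hs : ¬ N ≤ Cfsg.Geo.scalars (Fin n) F) {c s : ℕ}
    {D : Fin c → Submodule F V} (hD : Components H N c s D) : EightCases H := by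
  classical
  have hle := hD.le_stab
  have hdec := hD.decomp
  have hs0 : 0 < s := hdec.pos
  have hce := hD.mul_eq.trans hn8
  have hcs : (s = 1 ∧ c = n) ∨ (s = 2 ∧ c = 4) ∨ (s = 4 ∧ c = 2) := by
    have h2 := hD.two_le
    have hs6 : s ≤ 4 := by nlinarith
    interval_cases s <;> omega
  rcases hcs with ⟨rfl, rfl⟩ | ⟨rfl, rfl⟩ | ⟨rfl, rfl⟩
  · -- lines
    have hv : ∀ i, ∃ v ∈ D i, v ≠ 0 := fun i =>
      Submodule.exists_mem_ne_zero_of_ne_bot fun e => by
        have := hdec.finrank_eq i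
        rw [e, finrank_bot] at this
        omega
    choose v hvD hv0 using hv
    have hli : LinearIndependent F v := hdec.indep.linearIndependent D hvD hv0
    haveI : NeZero c := ⟨by omega⟩
    let β : Basis (Fin c) F (Fin c → F) := basisOfLinearIndependentOfCardEqFinrank hli (finrank_fintype_fun_eq_card F).symm
    have hβ : ∀ i, β i = v i := fun i => by simp [β]
    have hline : ∀ i, ∀ u ∈ D i, ∃ a : F, u = a • β i := by
      intro i u hu
      obtain ⟨a, ha⟩ := exists_smul_eq_of_finrank_eq_one (hdec.finrank_eq i) (x := (⟨v i, hvD i⟩ : D i))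
        (fun e => hv0 i (congrArg Subtype.val e)) ⟨u, hu⟩
      exact ⟨a, by rw [hβ]; exact (congrArg Subtype.val ha).symm⟩
    have hperm : ∀ g ∈ H, ∃ (π : Equiv.Perm (Fin c)) (a : Fin c → F), ∀ i, (g : Matrix (Fin c) (Fin c) F) *ᵥ β i = a i • β (π i) := by
      intro g hg
      obtain ⟨π, hπ⟩ := hle hg
      have : ∀ i, ∃ a : F, (g : Matrix (Fin c) (Fin c) F) *ᵥ β i = a • β (π i) := fun i => by
        refine hline _ _ ?_
        rw [← hπ i]
        exact ⟨β i, by rw [hβ]; exact hvD i, by rw [Matrix.toLin'_apply]⟩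
      choose a ha using this
      exact ⟨π, a, ha⟩
    rcases card_cases F with h | h | h | h
    · exact absurd (fun x hx => two_diag_scalar (b := β) (by omega) h fun i => by
        exact hline i _ (hD.inv i x hx _ (by rw [hβ]; exact hvD i))) hs
    · obtain ⟨Q, hQ, hmem⟩ := exists_quad h β
      refine quad_or_symp hn8 hH hQ (fun _ g hg => ?_) fun g hg => ?_
      · obtain ⟨π, a, ha⟩ := hperm g hg
        exact hmem g π a ha
      · obtain ⟨π, a, ha⟩ := hperm g hg
        obtain ⟨k, hk⟩ := hmem g π a ha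
        exact ⟨k, fun u w => by simp only [QuadraticMap.polar, ← Matrix.mulVec_add, hk]; ring⟩
    · obtain ⟨σ, f, hf, hmem⟩ := exists_unitary_four h β
      refine (.inr (.inr (.inr (.inr (.inr (.inr (.inr (.inr (.inr (.inr (.inl (unitary_case (by omega) hH hf
        fun g hg => ?_))))))))))))
      obtain ⟨π, a, ha⟩ := hperm g hg
      exact hmem g π a ha
    · exact .inr (.inl ⟨h, D, hdec, eq_of_max hH hle
        (MonomialMax.wreath_maximal hdec (by simp; omega) (fun _ => h) (fun h' => by omega))⟩)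
  · -- planes
    rcases Nat.lt_or_ge (Fintype.card F) 3 with h | h
    · have h2 : Fintype.card F = 2 := by
        have : 2 ≤ Fintype.card F := Fintype.one_lt_card
        omega
      obtain ⟨c', hc'⟩ := FrameLib.exists_coords hdec
      let f : V → V → F := fun u w => ∑ i, (c' u i 0 * c' w i 1 - c' u i 1 * c' w i 0)
      have hbil : Cfsg.Geo.IsBilinearForm f := by
        constructor <;> intros <;> simp only [f, map_add, map_smul, Pi.add_apply, Pi.smul_apply, smul_eq_mul,
          ← Finset.sum_add_distrib, Finset.mul_sum] <;> exact Finset.sum_congr rfl fun i _ => by ring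
      have hndg : Cfsg.Geo.IsNondegenerateForm f := by
        intro u hu
        obtain ⟨i, l, hil⟩ : ∃ i l, c' u i l ≠ 0 := by
          by_contra hcon
          push Not at hcon
          exact hu (c'.injective (by rw [map_zero]; funext i l; exact hcon i l))
        have key : ∀ w, f u (c'.symm (Pi.single i w)) = c' u i 0 * w 1 - c' u i 1 * w 0 ∧
            f (c'.symm (Pi.single i w)) u = w 0 * c' u i 1 - w 1 * c' u i 0 := by
          intro w
          constructor <;>
          · simp only [f, LinearEquiv.apply_symm_apply]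
            rw [Finset.sum_eq_single i (fun j _ hj => by simp [Pi.single_eq_of_ne hj]) (by simp), Pi.single_eq_same]
        fin_cases l
        · exact ⟨⟨c'.symm (Pi.single i ![0, 1]), by rw [(key _).2]; simpa using hil⟩,
            ⟨c'.symm (Pi.single i ![0, 1]), by rw [(key _).1]; simpa using hil⟩⟩
        · exact ⟨⟨c'.symm (Pi.single i ![1, 0]), by rw [(key _).2]; simpa using hil⟩,
            ⟨c'.symm (Pi.single i ![1, 0]), by rw [(key _).1]; simpa using hil⟩⟩
      have hf : Cfsg.Geo.IsSymplecticForm f :=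
        ⟨hbil, fun u w => by simp only [f, ← Finset.sum_neg_distrib]; exact Finset.sum_congr rfl fun i _ => by ring,
          fun u => Finset.sum_eq_zero fun i _ => by ring, hndg⟩
      refine (.inr (.inr (.inr (.inr (.inr (.inr (.inr (.inr (.inr (.inl (⟨f, hf, eq_inf_of_le hH (fun g hg => ?_)
        (sl_not_le_similarity (by omega) (IsSesq.of_bilinear hbil) hndg)⟩)))))))))))
      obtain ⟨π, hπ⟩ := hle hg
      have hmem : ∀ i w, c'.symm (Pi.single i w) ∈ D i := fun i w => by
        rw [hc']; intro j hj; rw [LinearEquiv.apply_symm_apply, Pi.single_eq_of_ne hj]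
      have himg : ∀ i w j, j ≠ π i → c' ((g : Mat) *ᵥ c'.symm (Pi.single i w)) j = 0 := fun i w => by
        refine (hc' _ _).1 ?_
        rw [← hπ i]
        exact ⟨_, hmem i w, by rw [Matrix.toLin'_apply]⟩
      let A : Fin 4 → Matrix (Fin 2) (Fin 2) F := fun i => Matrix.of fun a l =>
        c' ((g : Mat) *ᵥ c'.symm (Pi.single i (Pi.single l 1))) (π i) a
      have hblk : ∀ u i, c' ((g : Mat) *ᵥ u) (π i) = A i *ᵥ c' u i := by
        intro u i
        have hu : u = ∑ j, ∑ l, c' u j l • c'.symm (Pi.single j (Pi.single l 1)) := by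
          apply c'.injective
          simp only [map_sum, map_smul, LinearEquiv.apply_symm_apply]
          funext j l
          simp [Finset.sum_apply, Pi.single_apply, apply_ite (fun f : Fin 2 → F => f l)]
          fin_cases l <;> simp
        conv_lhs => rw [hu]
        simp only [Matrix.mulVec_sum, Matrix.mulVec_smul, map_sum, map_smul]
        funext a
        simp only [Finset.sum_apply, Pi.smul_apply, smul_eq_mul]
        rw [Finset.sum_eq_single i (fun j _ hj => ?_) (by simp)]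
        · simp [A, Matrix.mulVec, dotProduct, mul_comm]
        · refine Finset.sum_eq_zero fun l _ => ?_
          rw [himg j _ (π i) (fun e => hj (π.injective e).symm)]
          simp
      have hdet : ∀ i, (A i).det = 1 := by
        intro i
        rcases TensorSmall.two_cases h2 (A i).det with h0 | h0
        · exfalso
          obtain ⟨w, hw, hw'⟩ := Matrix.exists_mulVec_eq_zero_iff.2 h0
          refine hw ?_
          have h1 : (g : Mat) *ᵥ c'.symm (Pi.single i w) = 0 := by
            apply c'.injective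
            rw [map_zero]
            funext j
            by_cases hj : j = π i
            · rw [hj, hblk, LinearEquiv.apply_symm_apply, Pi.single_eq_same, hw']; rfl
            · rw [himg i w j hj]; rfl
          have h3 := congrArg (fun v => c' (((g⁻¹ : GL (Fin n) F) : Mat) *ᵥ v) i) h1
          simpa [TransvMax.inv_mulVec_mulVec] using h3
        · exact h0
      refine ⟨1, fun u w => ?_⟩
      simp only [f, Units.val_one, one_mul]
      rw [← Equiv.sum_comp π]
      refine Finset.sum_congr rfl fun i _ => ?_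
      rw [hblk, hblk]
      have hd := hdet i
      rw [Matrix.det_fin_two] at hd
      simp only [Matrix.mulVec, dotProduct, Fin.sum_univ_two]
      linear_combination (c' u i 0 * c' w i 1 - c' u i 1 * c' w i 0) * hd
    · exact .inr (.inr (.inl ⟨h, D, hdec, eq_of_max hH hle
        (MonomialMax.wreath_maximal hdec (by simp; omega) (fun h' => by omega) (fun _ => h))⟩))
  · exact (.inr (.inr (.inr (.inl (⟨D, hdec, eq_of_max hH hle (MonomialMax.wreath_maximal hdec (by simp; omega) (fun h' => by omega) (fun h' => by omega))⟩)))))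

theorem field_case {r : ℕ} (hr : r = 2) {K : Subalgebra F Mat} (hK : Cfsg.Geo.IsFieldSubalgebra r K)
    (hle : H ≤ Cfsg.Geo.subalgebraNormalizer K) : EightCases H := by
  subst hr
  exact (.inr (.inr (.inr (.inr (.inl (⟨K, hK, eq_of_max hH hle (ExtFieldMax.maximal_sl (ExtFieldMax.normFacts Nat.prime_two (by omega) (by omega) K hK))⟩))))))

theorem tensor_case {e : Fin n ≃ Fin 2 × Fin 4} {P : GL (Fin n) F}
    (hle : H ≤ Cfsg.Geo.tensorProductSubgroup 2 4 e P) : EightCases H := by
  classical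
  rcases Nat.lt_or_ge (Fintype.card F) 3 with h | h
  swap
  · exact (.inr (.inr (.inr (.inr (.inr (.inl (⟨h, e, P, eq_of_max hH hle (TensorMax.tensor_maximal_sl le_rfl (by omega) (fun h' => by omega) e P)⟩)))))))
  have h2 : Fintype.card F = 2 := by
    have : 2 ≤ Fintype.card F := Fintype.one_lt_card
    omega
  obtain ⟨J, hJE, hJi, hJle⟩ := TensorSmall.exists_order_three e P h2
  have h20 := TensorSmall.two_eq_zero h2
  have hJ2 : (J : Mat) * J = J + 1 := by
    refine Matrix.ext_iff_mulVec.2 fun v => ?_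
    obtain ⟨p, q, rfl⟩ := TensorSmall.exists_pairVec e P v
    rw [← Matrix.mulVec_mulVec, Matrix.add_mulVec, Matrix.one_mulVec, hJE, hJE, TensorSmall.pairVec_add]
    congr 1
    · exact add_comm p q
    · funext j; simp only [Pi.add_apply]; linear_combination (-(0 : F)) * h20
  have hinv : ((J⁻¹ : GL (Fin n) F) : Mat) = J + 1 := by
    refine Units.inv_eq_of_mul_eq_one_right ?_
    rw [mul_add, hJ2, mul_one, add_right_comm, add_self_zero h20, zero_add]
  have hK : ∀ a, a ∈ Algebra.adjoin F {(J : Mat)} ↔ ∃ s t : F, a = s • (1 : Mat) + t • (J : Mat) := by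
    intro a
    constructor
    · intro ha
      induction ha using Algebra.adjoin_induction with
      | mem x hx => exact ⟨0, 1, by rw [Set.mem_singleton_iff.1 hx]; simp⟩
      | algebraMap c => exact ⟨c, 0, by simp [Algebra.algebraMap_eq_smul_one]⟩
      | add x y _ _ hx hy =>
        obtain ⟨s, t, rfl⟩ := hx
        obtain ⟨s', t', rfl⟩ := hy
        exact ⟨s + s', t + t', by simp [add_smul]; abel⟩
      | mul x y _ _ hx hy =>
        obtain ⟨s, t, rfl⟩ := hx
        obtain ⟨s', t', rfl⟩ := hy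
        refine ⟨s * s' + t * t', s * t' + t * s' + t * t', ?_⟩
        simp only [add_mul, mul_add, smul_mul_assoc, mul_smul_comm, one_mul, mul_one, hJ2, smul_add, smul_smul,
          add_smul, mul_comm t' t, mul_comm s' t, mul_comm t' s, mul_comm s' s]
        abel
    · rintro ⟨s, t, rfl⟩
      exact add_mem (Subalgebra.smul_mem _ (one_mem _) _) (Subalgebra.smul_mem _ (Algebra.self_mem_adjoin_singleton F _) _)
  have hindep : ∀ s t : F, s • (1 : Mat) + t • (J : Mat) = 0 → s = 0 ∧ t = 0 := by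
    intro s t hst
    have h1 := congrArg (fun M => M *ᵥ TensorSmall.pairVec e P (Pi.single ⟨0, by omega⟩ 1) 0) hst
    simp only [Matrix.add_mulVec, Matrix.smul_mulVec, Matrix.one_mulVec, hJE, TensorSmall.pairVec_smul,
      TensorSmall.pairVec_add, Matrix.zero_mulVec] at h1
    have h0 : TensorSmall.pairVec e P 0 0 = 0 := by simp [TensorSmall.pairVec, TensorSmall.tp_zero_right]
    rw [← h0] at h1
    obtain ⟨e1, e2⟩ := TensorSmall.pairVec_inj e P h1
    have e1' := congrFun e1 ⟨0, by omega⟩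
    have e2' := congrFun e2 ⟨0, by omega⟩
    simp at e1' e2'
    exact ⟨e1', e2'⟩
  have hfield : Cfsg.Geo.IsFieldSubalgebra 2 (Algebra.adjoin F {(J : Mat)}) := by
    refine ⟨fun a ha c hc => ?_, fun a ha ha0 => ?_, ?_⟩
    · obtain ⟨s, t, rfl⟩ := (hK a).1 ha
      obtain ⟨s', t', rfl⟩ := (hK c).1 hc
      simp only [add_mul, mul_add, smul_mul_assoc, mul_smul_comm, one_mul, mul_one, smul_add, smul_smul]
      rw [mul_comm s' s, mul_comm t' s, mul_comm s' t, mul_comm t' t]
      abel
    · obtain ⟨s, t, rfl⟩ := (hK a).1 ha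
      have hm := fun s t => (hK (s • (1 : Mat) + t • (J : Mat))).2 ⟨s, t, rfl⟩
      have hJJ : (J : Mat) * ((J : Mat) + 1) = 1 := by rw [← hinv, ← Units.val_mul, mul_inv_cancel, Units.val_one]
      rcases TensorSmall.two_cases h2 s with rfl | rfl <;> rcases TensorSmall.two_cases h2 t with rfl | rfl
      · simp at ha0
      · exact ⟨_, hm 1 1, by simpa [add_comm] using hJJ⟩
      · exact ⟨_, hm 1 0, by simp⟩
      · refine ⟨_, hm 0 1, ?_⟩
        have : ((J : Mat) + 1) * (J : Mat) = 1 := by rw [← hinv, ← Units.val_mul, inv_mul_cancel, Units.val_one]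
        simpa [add_comm] using this
    · let L : F × F →ₗ[F] (Algebra.adjoin F {(J : Mat)}).toSubmodule :=
        { toFun := fun p => ⟨p.1 • (1 : Mat) + p.2 • (J : Mat), (hK _).2 ⟨_, _, rfl⟩⟩
          map_add' := fun p q => Subtype.ext (by simp [add_smul]; abel)
          map_smul' := fun r p => Subtype.ext (by simp [smul_smul]) }
      have hL : Function.Bijective L := by
        refine ⟨?_, fun a => ?_⟩
        · rw [← LinearMap.ker_eq_bot, eq_bot_iff]
          intro p hp
          obtain ⟨e1, e2⟩ := hindep p.1 p.2 (congrArg Subtype.val (LinearMap.mem_ker.1 hp))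
          exact (Submodule.mem_bot F).2 (Prod.ext e1 e2)
        · obtain ⟨s, t, ha⟩ := (hK a).1 a.2
          exact ⟨(s, t), Subtype.ext ha.symm⟩
      have := (LinearEquiv.ofBijective L hL).finrank_eq
      rw [Module.finrank_prod, finrank_self] at this
      exact this.symm
  refine field_case hn8 hH rfl hfield fun g hg a => ?_
  have key : ∀ g ∈ TensorSmall.invPairNormalizer J, ∀ a ∈ Algebra.adjoin F {(J : Mat)},
      (g : Mat) * a * ((g⁻¹ : GL (Fin n) F) : Mat) ∈ Algebra.adjoin F {(J : Mat)} := by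
    intro g hg a ha
    obtain ⟨s, t, rfl⟩ := (hK a).1 ha
    have hc : (g : Mat) * J * ((g⁻¹ : GL (Fin n) F) : Mat) ∈ Algebra.adjoin F {(J : Mat)} := by
      rcases hg with hg | hg <;> have hg' := congrArg (fun z : GL (Fin n) F => (z : Mat)) hg <;>
        simp only [Units.val_mul] at hg' <;> rw [hg']
      · exact Algebra.self_mem_adjoin_singleton F _
      · rw [hinv]; exact add_mem (Algebra.self_mem_adjoin_singleton F _) (one_mem _)
    simp only [mul_add, add_mul, mul_smul_comm, smul_mul_assoc, mul_one, ← Units.val_mul, mul_inv_cancel,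
      Units.val_one]
    exact add_mem (Subalgebra.smul_mem _ (one_mem _) _) (Subalgebra.smul_mem _ (by rwa [Units.val_mul, Units.val_mul]) _)
  refine ⟨key g (hJle (hle hg)) a, fun h => ?_⟩
  simpa [mul_assoc, ← Units.val_mul] using key g⁻¹ (inv_mem (hJle (hle hg))) _ h

theorem tensorBasis_case {N : Subgroup (GL (Fin n) F)} (hn : ∀ g ∈ H, ∀ x ∈ N, g * x * g⁻¹ ∈ N)
    {k d : ℕ} (hkd : k * d = n) (hk : 1 < k) (hd : 1 < d) (T : TensorBasis N k d) : EightCases H := by
  classical
  haveI : NeZero n := ⟨by omega⟩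
  by_cases hsc : ScalarCommutant T.ρ.range
  swap
  · obtain ⟨r, K, hr, hK, hle, -⟩ :=
      field_of_endo T (by omega) (by omega) ⟨k, by rw [← hn8, ← hkd, mul_comm]⟩ hsc hn
    exact field_case hn8 hH hr hK hle
  have hkd' : (k = 2 ∧ d = 4) ∨ (k = 4 ∧ d = 2) := by
    have he := hkd.trans hn8
    have hk6 : k ≤ 4 := by nlinarith
    interval_cases k <;> omega
  rcases hkd' with ⟨rfl, rfl⟩ | ⟨rfl, rfl⟩
  · obtain ⟨e, P, hmem⟩ := exists_tensor_of_basis (by norm_num) (by norm_num) T.β
    refine tensor_case hn8 hH (e := e) (P := P) fun g hg => ?_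
    obtain ⟨B, A, hform, -⟩ := T.normalizer_form hsc (hn g hg)
    exact hmem g B A hform
  · obtain ⟨e, P, hmem⟩ := exists_tensor_of_basis (by norm_num) (by norm_num) (T.β.reindex (Equiv.prodComm _ _))
    refine tensor_case hn8 hH (e := e) (P := P) fun g hg => ?_
    obtain ⟨B, A, hform, -⟩ := T.normalizer_form hsc (hn g hg)
    refine hmem g A B fun j l => ?_
    simp only [Basis.reindex_apply, Equiv.prodComm_symm, Equiv.prodComm_apply, Prod.swap_prod_mk, hform]
    rw [Finset.sum_comm]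
    simp only [mul_comm]

/-- The classification of maximal subgroups. -/
theorem eight_cases : EightCases H := by
  classical
  haveI : NeZero n := ⟨by omega⟩
  by_cases hirr : Irr H
  swap
  · obtain ⟨W, hW0, hW1, hinv, -⟩ := exists_minimal_invariant hirr
    refine Or.inl ⟨W, hW0, hW1, eq_inf_of_le hH (fun g hg => ?_) (sl_not_le_subspace hW0 hW1)⟩
    intro v
    refine ⟨hinv g hg v, fun h => ?_⟩
    have := hinv g⁻¹ (H.inv_mem hg) _ h
    rwa [show Cfsg.glToMat (Fin n) F g *ᵥ v = (g : Mat) *ᵥ v from rfl, TransvMax.inv_mulVec_mulVec] at this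
  have hHs : ¬ H ≤ Cfsg.Geo.scalars (Fin n) F := by
    intro hle
    set u : V := Pi.single 0 1
    have hu : u ≠ 0 := fun e => by simpa [u] using congrFun e 0
    rcases hirr (Submodule.span F {u}) (fun g hg w hw => by
      obtain ⟨c, hc⟩ := (Cfsg.Geo.mem_scalars_iff g).1 (hle hg)
      rw [hc, Matrix.smul_mulVec, Matrix.one_mulVec]
      exact Submodule.smul_mem _ _ hw) with h | h
    · exact hu (by simpa using h)
    · have h1 := finrank_span_singleton (K := F) hu
      rw [h, finrank_top, finrank_fintype_fun_eq_card, Fintype.card_fin] at h1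
      omega
  -- a minimal non-scalar normal subgroup
  let Good : ℕ → Prop := fun m => ∃ N : Subgroup (GL (Fin n) F), Nat.card N = m ∧ N ≤ H ∧
    (∀ g ∈ H, ∀ x ∈ N, g * x * g⁻¹ ∈ N) ∧ ¬ N ≤ Cfsg.Geo.scalars (Fin n) F
  have hex : ∃ m, Good m :=
    ⟨_, H, rfl, le_rfl, fun g hg x hx => H.mul_mem (H.mul_mem hg hx) (H.inv_mem hg), hHs⟩
  obtain ⟨N, hNcard, hNH, hNn, hNs⟩ := Nat.find_spec hex
  have hmin : ∀ R : Subgroup (GL (Fin n) F), R ≤ N → (∀ g ∈ H, ∀ x ∈ R, g * x * g⁻¹ ∈ R) →
      ¬ R ≤ Cfsg.Geo.scalars (Fin n) F → R = N := fun R hR hRn hRs =>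
    Subgroup.eq_of_le_of_card_ge hR (by rw [hNcard]; exact Nat.find_min' hex ⟨R, rfl, hR.trans hNH, hRn, hRs⟩)
  by_cases hNirr : Irr N
  swap
  · rcases clifford hirr hNn hNs hNirr with ⟨c, s, D, hD⟩ | ⟨k, d, hkd, hd, hk, ⟨T⟩⟩
    · exact components_case hn8 hH hNs hD
    · exact tensorBasis_case hn8 hH hNn hkd hk hd T
  by_cases hNsc : ScalarCommutant N
  swap
  · haveI := commutant_isDomain hNirr
    obtain ⟨r, K, hr, -, hK, hle⟩ := prime_sub (commutantAlg N)
      ((finrank_commutant_dvd hNirr).trans (dvd_of_eq hn8)) (fun e => hNsc fun M hM => by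
        obtain ⟨c, hc⟩ := exists_smul_eq_of_finrank_eq_one e (x := (1 : commutantAlg N))
          (fun e => one_ne_zero (α := Mat) (congrArg Subtype.val e)) ⟨M, mem_commutantAlg.2 hM⟩
        exact ⟨c, (congrArg Subtype.val hc).symm⟩) (G0 := H) (fun g hg a ha => by
        rw [mem_commutantAlg] at ha ⊢
        intro x hx
        have h1 := ha _ (show g⁻¹ * x * g ∈ N by simpa using hNn g⁻¹ (H.inv_mem hg) x hx)
        have h2 := congrArg (fun M => (g : Mat) * M * ((g⁻¹ : GL (Fin n) F) : Mat)) h1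
        simp only [Units.val_mul, ← mul_assoc] at h2
        simpa [mul_assoc] using h2)
    exact field_case hn8 hH hr hK hle
  by_cases hD : ⁅N, N⁆ ≤ Cfsg.Geo.scalars (Fin n) F
  · have hD' : ∀ x ∈ N, ∀ y ∈ N, x * y * x⁻¹ * y⁻¹ ∈ Cfsg.Geo.scalars (Fin n) F := fun x hx y hy => by
      have := hD (Subgroup.commutator_mem_commutator hx hy)
      rwa [commutatorElement_def] at this
    have hcard := classTwo_card hNirr hNsc hD'
    set Z := (Cfsg.Geo.scalars (Fin n) F).subgroupOf N
    haveI hZn : Z.Normal :=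
      ⟨fun a ha g => Subgroup.mem_subgroupOf.2 (Cfsg.Geo.scalars_normal.conj_mem _ (Subgroup.mem_subgroupOf.1 ha) _)⟩
    have hcomm : ∀ a c : N ⧸ Z, Commute a c := by
      intro a c
      obtain ⟨x, rfl⟩ := QuotientGroup.mk'_surjective Z a
      obtain ⟨y, rfl⟩ := QuotientGroup.mk'_surjective Z c
      show QuotientGroup.mk (x * y) = (QuotientGroup.mk (y * x) : N ⧸ Z)
      refine QuotientGroup.eq.2 (Subgroup.mem_subgroupOf.2 ?_)
      simpa [mul_assoc] using hD' _ (N.inv_mem y.2) _ (N.inv_mem x.2)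
    have hpow : ∀ l : ℕ, l.Prime → l ∣ n → ∀ x ∈ N, x ^ l ∈ Cfsg.Geo.scalars (Fin n) F := by
      intro l hl hln
      let M : Subgroup (GL (Fin n) F) :=
        ((powHom hcomm l).comp (QuotientGroup.mk' Z)).ker.map N.subtype
      have hM : ∀ x, x ∈ M ↔ ∃ h : x ∈ N, x ^ l ∈ Cfsg.Geo.scalars (Fin n) F := by
        intro x
        constructor
        · rintro ⟨y, hy, rfl⟩
          refine ⟨y.2, ?_⟩
          have h1 : (QuotientGroup.mk (y ^ l) : N ⧸ Z) = 1 := hy
          simpa using Subgroup.mem_subgroupOf.1 ((QuotientGroup.eq_one_iff _).1 h1)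
        · rintro ⟨h, h'⟩
          exact ⟨⟨x, h⟩, (QuotientGroup.eq_one_iff _).2 (Subgroup.mem_subgroupOf.2 (by simpa using h')), rfl⟩
      haveI : Fact l.Prime := ⟨hl⟩
      obtain ⟨a, ha⟩ := exists_prime_orderOf_dvd_card' (G := N ⧸ Z) l
        (by rw [hcard]; exact hln.trans (dvd_pow_self n two_ne_zero))
      obtain ⟨y, rfl⟩ := QuotientGroup.mk'_surjective Z a
      have hy : (y : GL (Fin n) F) ∈ M := (hM _).2 ⟨y.2, by
        have h1 : (QuotientGroup.mk (y ^ l) : N ⧸ Z) = 1 := orderOf_dvd_iff_pow_eq_one.1 ha.dvd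
        simpa using Subgroup.mem_subgroupOf.1 ((QuotientGroup.eq_one_iff _).1 h1)⟩
      have hys : (y : GL (Fin n) F) ∉ Cfsg.Geo.scalars (Fin n) F := fun h => by
        rw [show QuotientGroup.mk' Z y = 1 from (QuotientGroup.eq_one_iff y).2 (Subgroup.mem_subgroupOf.2 h),
          orderOf_one] at ha
        exact hl.ne_one ha.symm
      have hMN := hmin M (fun x hx => ((hM x).1 hx).1) (fun g hg x hx => (hM _).2 ⟨hNn g hg x ((hM x).1 hx).1, by
        rw [conj_pow]
        exact Subgroup.Normal.conj_mem (Cfsg.Geo.scalars_normal) _ ((hM x).1 hx).2 g⟩) fun h => hys (h hy)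
      intro x hx
      exact ((hM x).1 (hMN.symm ▸ hx)).2
    obtain ⟨R, hRn, hRirr, hRsc, h2, hR4, hcase⟩ :=
      two_type hn8 hNn hNs hmin hNirr hNsc hD' (hpow 2 Nat.prime_two (by omega))
    rcases hcase with ⟨f, hf, hfix, hne⟩ | ⟨F₀, hF₀, hre⟩ | ⟨σ, f, hf, hfix⟩ | ⟨hp, hdata, x, hx, hxs⟩
    · exact form_case hn8 hH hRn hRirr hRsc hf hfix hne
    · exact (.inr (.inr (.inr (.inr (.inr (.inr (.inl (subfield_case (by omega) hH hRsc hRn F₀ hF₀ hre))))))))
    · exact (.inr (.inr (.inr (.inr (.inr (.inr (.inr (.inr (.inr (.inr (.inl (unitary_case (by omega) hH hf fun h hh =>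
        mem_similarity hRsc (IsSesq.of_unitary hf) hf.nondegenerate hfix (hRn h hh)))))))))))))
    · refine (.inr (.inr (.inr (.inr (.inr (.inr (.inr (.inl (⟨hp, R, hdata, eq_inf_of_le hH (fun g hg => ?_) (not_le_normalizer hn8 hH h2 hR4 hx hxs)⟩)))))))))
      refine Subgroup.mem_normalizer_iff.2 fun y => ⟨fun hy => hRn g hg y hy, fun hy => ?_⟩
      simpa [mul_assoc] using hRn g⁻¹ (H.inv_mem hg) _ hy
  have hperf : ⁅N, N⁆ = N := by
    refine hmin _ (Subgroup.commutator_le.2 fun a ha c hc => ?_) (fun g hg x hx => ?_) hD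
    · exact N.mul_mem (N.mul_mem (N.mul_mem ha hc) (N.inv_mem ha)) (N.inv_mem hc)
    · have h1 : g * x * g⁻¹ ∈ ⁅N, N⁆.map (MulAut.conj g).toMonoidHom := ⟨x, hx, rfl⟩
      rw [Subgroup.map_commutator] at h1
      have hle : N.map (MulAut.conj g).toMonoidHom ≤ N := by
        rintro _ ⟨t, ht, rfl⟩
        exact hNn g hg t ht
      exact Subgroup.commutator_mono hle hle h1
  have hr3 : 3 ≤ n := by omega
  by_cases hB : ∃ f : V → V → F, Cfsg.Geo.IsBilinearForm f ∧
      (∀ x ∈ N, ∀ u v, f ((x : Mat) *ᵥ u) ((x : Mat) *ᵥ v) = f u v) ∧ ∃ u v, f u v ≠ 0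
  · obtain ⟨f, hf, hfix, hne⟩ := hB
    exact form_case hn8 hH hNn hNirr hNsc hf hfix hne
  have hform : NoForm N := fun f hf hfix u v => by
    by_contra h
    exact hB ⟨f, hf, hfix, u, v, h⟩
  obtain ⟨hsimp, hnab, hcen⟩ := simple_mod_scalars hn8 hNH hperf hNn hNs hmin hNirr hNsc hform
  obtain ⟨u₀, hu₀⟩ : ∃ u : V, u ≠ 0 := ⟨Pi.single 0 1, fun e => by simpa using congrFun e 0⟩
  by_cases hreal : ∃ F₀ : Subfield F, F₀ ≠ ⊤ ∧ Cfsg.Geo.RealisableOver F₀ (Cfsg.Geo.matrixSet N)
  · obtain ⟨F₀, hF₀, h⟩ := hreal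
    exact (.inr (.inr (.inr (.inr (.inr (.inr (.inl (subfield_case hr3 hH hNsc hNn F₀ hF₀ h))))))))
  push Not at hreal
  have hQ : ¬ ∃ Q : V → F, Cfsg.Geo.IsNondegenerateQuadraticForm Q ∧ Cfsg.Geo.FixesQuadForm (Cfsg.Geo.matrixSet N) Q := by
    rintro ⟨Q, hQ, hfix⟩
    obtain ⟨⟨w, hw⟩, -⟩ := hQ.nondegenerate u₀ hu₀
    exact hB ⟨_, hQ.polar_bilinear, fun x hx u v => by
      simp only [QuadraticMap.polar, ← Matrix.mulVec_add, hfix _ ⟨x, hx, rfl⟩], w, u₀, hw⟩
  have hS : ¬ ∃ f : V → V → F, Cfsg.Geo.IsSymplecticForm f ∧ Cfsg.Geo.FixesForm (Cfsg.Geo.matrixSet N) f := by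
    rintro ⟨f, hf, hfix⟩
    obtain ⟨⟨w, hw⟩, -⟩ := hf.nondegenerate u₀ hu₀
    exact hB ⟨f, hf.bilinear, fun x hx => hfix _ ⟨x, hx, rfl⟩, w, u₀, hw⟩
  by_cases hU : ∃ (σ : F ≃+* F) (f : V → V → F), Cfsg.Geo.IsUnitaryForm σ f ∧
      Cfsg.Geo.FixesForm (Cfsg.Geo.matrixSet N) f
  · obtain ⟨σ, f, hf, hfix⟩ := hU
    exact (.inr (.inr (.inr (.inr (.inr (.inr (.inr (.inr (.inr (.inr (.inl (unitary_case hr3 hH hf fun h hh =>
      mem_similarity hNsc (IsSesq.of_unitary hf) hf.nondegenerate hfix (hNn h hh)))))))))))))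
  exact (.inr (.inr (.inr (.inr (.inr (.inr (.inr (.inr (.inr (.inr (.inr ⟨N, ⟨hNH, hNn, hperf, hsimp, hnab, hcen, absIrred_matrixSet hNirr hNsc, hreal⟩, hQ, hS, hU⟩)))))))))))

end

end Cfsg.Agent.Eight
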